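import Cfsg.Prelude.Def_Solvable
import Mathlib.LinearAlgebra.Transvection.Basic
import Mathlib.LinearAlgebra.Dual.Lemmas
import Mathlib.Algebra.CharP.Lemmas
import Mathlib.Algebra.CharP.Algebra
import Mathlib.LinearAlgebra.FiniteDimensional.Basic
import Mathlib.LinearAlgebra.Dimension.Constructions
import Mathlib.GroupTheory.PGroup
import Mathlib.Algebra.Field.ZMod
import Mathlib.Algebra.Module.ZMod

/-!
Groups over `ZMod p` (p odd) containing transvections and without normal `p`-subgroups: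
the axes attached to a centre, and the symmetry of the relation "some axis of `a` does not
vanish at `b`".
-/

set_option autoImplicit false

noncomputable section

namespace Cfsg.Agent.McLaughlin

open Module

variable {p : ℕ} [Fact p.Prime] {V : Type*} [AddCommGroup V] [Module (ZMod p) V]

/-- `g` is the transvection `v ↦ v + φ(v) • a` -/
def Tv (g : V ≃ₗ[ZMod p] V) (a : V) (φ : Dual (ZMod p) V) : Prop := ∀ v, g v = v + φ v • a

theorem tv_mul {g h : V ≃ₗ[ZMod p] V} {a : V} {φ ψ : Dual (ZMod p) V} (hg : Tv g a φ)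
    (hh : Tv h a ψ) (h0 : φ a = 0) : Tv (g * h) a (φ + ψ) := by
  intro v
  show g (h v) = _
  rw [hh v, map_add, map_smul, hg v, hg a, h0, zero_smul, add_zero, LinearMap.add_apply, add_smul]
  abel

theorem tv_conj {g x : V ≃ₗ[ZMod p] V} {a : V} {φ : Dual (ZMod p) V} (hg : Tv g a φ) :
    Tv (x * g * x⁻¹) (x a) (φ.comp x.symm.toLinearMap) := by
  intro v
  show x (g (x.symm v)) = _
  rw [hg, map_add, map_smul, x.apply_symm_apply]
  rfl

theorem tv_unique {g h : V ≃ₗ[ZMod p] V} {a : V} {φ : Dual (ZMod p) V} (hg : Tv g a φ)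
    (hh : Tv h a φ) : g = h := LinearEquiv.ext fun v => (hg v).trans (hh v).symm

theorem tv_symm {g : V ≃ₗ[ZMod p] V} {a : V} {φ : Dual (ZMod p) V} (hg : Tv g a φ)
    (h0 : φ a = 0) : Tv g⁻¹ a (-φ) := by
  intro v
  show g.symm v = _
  rw [LinearEquiv.symm_apply_eq, map_add, map_smul, hg v, hg a, h0, zero_smul, add_zero,
    LinearMap.neg_apply, neg_smul]
  abel

/-- the transvection with given centre and axis -/
def tvEquiv (a : V) (φ : Dual (ZMod p) V) (h : φ a = 0) : V ≃ₗ[ZMod p] V :=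
  LinearEquiv.transvection (f := φ) (v := a) h

theorem tv_tvEquiv (a : V) (φ : Dual (ZMod p) V) (h : φ a = 0) : Tv (tvEquiv a φ h) a φ :=
  fun v => LinearEquiv.transvection.apply h v

variable (H : Subgroup (V ≃ₗ[ZMod p] V))

/-- the functionals `φ` for which the transvection with centre `a` and axis `φ` lies in `H` -/
def axesAdd (a : V) : AddSubgroup (Dual (ZMod p) V) where
  carrier := {φ | φ a = 0 ∧ ∃ g ∈ H, Tv g a φ}
  zero_mem' := ⟨rfl, 1, H.one_mem, fun v => by simp⟩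
  add_mem' := by
    rintro φ ψ ⟨h1, g, hg, t1⟩ ⟨h2, h, hh, t2⟩
    exact ⟨by simp [h1, h2], g * h, H.mul_mem hg hh, tv_mul t1 t2 h1⟩
  neg_mem' := by
    rintro φ ⟨h1, g, hg, t1⟩
    exact ⟨by simp [h1], g⁻¹, H.inv_mem hg, tv_symm t1 h1⟩

/-- the axes of a centre, as a subspace -/
def axes (a : V) : Submodule (ZMod p) (Dual (ZMod p) V) :=
  AddSubgroup.toZModSubmodule p (axesAdd H a)

theorem mem_axes {a : V} {φ : Dual (ZMod p) V} :
    φ ∈ axes H a ↔ φ a = 0 ∧ ∃ g ∈ H, Tv g a φ := Iff.rfl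

theorem axes_smul {c : ZMod p} (hc : c ≠ 0) (a : V) : axes H (c • a) = axes H a := by
  have key : ∀ (c : ZMod p) (a : V) (φ : Dual (ZMod p) V), c ≠ 0 →
      φ ∈ axes H (c • a) → φ ∈ axes H a := by
    intro c a φ hc hφ
    obtain ⟨h1, g, hg, t⟩ := (mem_axes H).1 hφ
    have h1' : φ a = 0 := by
      rw [map_smul, smul_eq_mul] at h1
      exact (mul_eq_zero.1 h1).resolve_left hc
    have : c • φ ∈ axes H a :=
      (mem_axes H).2 ⟨by simp [h1'], g, hg, fun v => by rw [t v, LinearMap.smul_apply,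
        smul_eq_mul, smul_smul, mul_comm]⟩
    simpa [smul_smul, inv_mul_cancel₀ hc] using (axes H a).smul_mem c⁻¹ this
  ext φ
  refine ⟨key c a φ hc, fun h => key c⁻¹ (c • a) φ (inv_ne_zero hc) ?_⟩
  rwa [smul_smul, inv_mul_cancel₀ hc, one_smul]

theorem axes_conj {x : V ≃ₗ[ZMod p] V} (hx : x ∈ H) {a : V} {φ : Dual (ZMod p) V}
    (h : φ ∈ axes H a) : φ.comp x.symm.toLinearMap ∈ axes H (x a) := by
  obtain ⟨h1, g, hg, t⟩ := (mem_axes H).1 h
  exact (mem_axes H).2 ⟨by simp [h1], x * g * x⁻¹, H.mul_mem (H.mul_mem hx hg) (H.inv_mem hx),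
    tv_conj t⟩

theorem finrank_axes_conj [FiniteDimensional (ZMod p) V] {x : V ≃ₗ[ZMod p] V} (hx : x ∈ H)
    (a : V) : finrank (ZMod p) (axes H (x a)) = finrank (ZMod p) (axes H a) := by
  have key : ∀ (x : V ≃ₗ[ZMod p] V), x ∈ H → ∀ a,
      finrank (ZMod p) (axes H a) ≤ finrank (ZMod p) (axes H (x a)) := by
    intro x hx a
    have hmap : (axes H a).map x.symm.toLinearMap.dualMap ≤ axes H (x a) := by
      rintro _ ⟨φ, hφ, rfl⟩
      exact axes_conj H hx hφ
    refine le_trans (le_of_eq ?_) (Submodule.finrank_mono hmap)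
    exact (Submodule.equivMapOfInjective _ (LinearEquiv.dualMap x.symm).injective _).finrank_eq
  refine le_antisymm ?_ (key x hx a)
  have := key x⁻¹ (H.inv_mem hx) (x a)
  rwa [show x⁻¹ (x a) = a from x.symm_apply_apply a] at this

/-- some axis of `a` does not vanish at `b` -/
def Sees (a b : V) : Prop := ∃ φ ∈ axes H a, φ b ≠ 0

theorem sees_conj {x : V ≃ₗ[ZMod p] V} (hx : x ∈ H) {a b : V} (h : Sees H a b) :
    Sees H (x a) (x b) := by
  obtain ⟨φ, hφ, hb⟩ := h
  exact ⟨_, axes_conj H hx hφ, by simpa using hb⟩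

theorem sees_smul_left {c : ZMod p} (hc : c ≠ 0) {a b : V} :
    Sees H (c • a) b ↔ Sees H a b := by
  unfold Sees; rw [axes_smul H hc]

theorem sees_smul_right {c : ZMod p} (hc : c ≠ 0) {a b : V} :
    Sees H a (c • b) ↔ Sees H a b := by
  simp [Sees, hc]

/-- `φ ∈ axes a` vanishing at `b`, while `ψ ∈ axes b` sees `a`: then `φ ∈ axes b` -/
theorem axes_transfer {a b : V} {φ ψ : Dual (ZMod p) V} (hφ : φ ∈ axes H a) (hψ : ψ ∈ axes H b)
    (hφb : φ b = 0) (hψa : ψ a ≠ 0) : φ ∈ axes H b := by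
  obtain ⟨hφa, t, ht, tt⟩ := (mem_axes H).1 hφ
  have h1 := axes_conj H ht hψ
  have e : t b = b := by rw [tt b, hφb, zero_smul, add_zero]
  rw [e] at h1
  have h2 := (axes H b).sub_mem hψ h1
  have e2 : ψ - ψ.comp t.symm.toLinearMap = ψ a • φ := by
    refine LinearMap.ext fun v => ?_
    have hs : t.symm v = v + (-φ v) • a := tv_symm tt hφa v
    simp [hs]
    ring
  rw [e2] at h2
  simpa [smul_smul, inv_mul_cancel₀ hψa] using (axes H b).smul_mem (ψ a)⁻¹ h2

/-- a mutually seeing pair is conjugate up to scalars -/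
theorem exists_conj_of_sees {a b : V} (h1 : Sees H a b) (h2 : Sees H b a) :
    ∃ x ∈ H, ∃ c : ZMod p, c ≠ 0 ∧ x b = c • a := by
  obtain ⟨φ, hφ, hb⟩ := h1
  obtain ⟨ψ, hψ, ha⟩ := h2
  obtain ⟨hφa, t, ht, tt⟩ := (mem_axes H).1 hφ
  set k := -(φ b * ψ a)⁻¹
  obtain ⟨hkb, u, hu, tu⟩ := (mem_axes H).1 ((axes H b).smul_mem k hψ)
  refine ⟨u * t, H.mul_mem hu ht, φ b, hb, ?_⟩
  show u (t b) = _
  have hψb : ψ b = 0 := ((mem_axes H).1 hψ).1
  rw [tt b, tu]
  simp only [LinearMap.smul_apply, map_add, map_smul, hψb, smul_eq_mul, k]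
  rw [show -(φ b * ψ a)⁻¹ * 0 + φ b * (-(φ b * ψ a)⁻¹ * ψ a) = -1 by field_simp; ring,
    neg_smul, one_smul]
  abel

/-- the sum of two centres one of which sees the other is a centre -/
theorem sees_add {a b : V} (h : Sees H a b) (c : ZMod p) :
    ∃ x ∈ H, x b = b + c • a := by
  obtain ⟨φ, hφ, hb⟩ := h
  obtain ⟨-, t, ht, tt⟩ := (mem_axes H).1 ((axes H a).smul_mem (c / φ b) hφ)
  exact ⟨t, ht, by rw [tt b, LinearMap.smul_apply, smul_eq_mul, div_mul_cancel₀ _ hb]⟩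

section Chain

variable [FiniteDimensional (ZMod p) V]

omit [FiniteDimensional (ZMod p) V] in
theorem pow_eq_one_of_cube {g : V ≃ₗ[ZMod p] V} (hp : 3 ≤ p)
    (h : ∀ v, g (g (g v - v) - (g v - v)) = g (g v - v) - (g v - v)) : g ^ p = 1 := by
  rcases subsingleton_or_nontrivial V with hV | hV
  · exact LinearEquiv.ext fun v => Subsingleton.elim _ _
  haveI : CharP (Module.End (ZMod p) V) p :=
    charP_of_injective_ringHom (algebraMap (ZMod p) (Module.End (ZMod p) V)).injective p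
  let N : Module.End (ZMod p) V := g.toLinearMap - 1
  have hN3 : N ^ 3 = 0 := LinearMap.ext fun v => by
    show N (N (N v)) = 0
    simp only [N, LinearMap.sub_apply, LinearEquiv.coe_coe, Module.End.one_apply]
    rw [sub_eq_zero]
    exact h v
  have hNp : N ^ p = 0 := pow_eq_zero_of_le hp hN3
  have e : g.toLinearMap ^ p = 1 := by
    have := sub_pow_char_of_commute p (Commute.one_right (g.toLinearMap : Module.End (ZMod p) V))
    rw [show g.toLinearMap - 1 = N from rfl, hNp, one_pow] at this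
    exact sub_eq_zero.1 this.symm
  refine LinearEquiv.toLinearMap_injective ?_
  have key : ∀ k : ℕ, (g ^ k).toLinearMap = (g.toLinearMap : Module.End (ZMod p) V) ^ k := by
    intro k
    induction k with
    | zero => rfl
    | succ k ih => rw [pow_succ, pow_succ, ← ih]; rfl
  rw [key, e]; rfl

/-- elements of `H` acting trivially on an invariant chain `R ≤ P` are trivial -/
theorem eq_one_of_chain (hp : 3 ≤ p) (hO : Cfsg.pCore p H = ⊥) {R P : Submodule (ZMod p) V}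
    (hRP : R ≤ P) (hR : ∀ x ∈ H, ∀ v ∈ R, x v ∈ R) (hP : ∀ x ∈ H, ∀ v ∈ P, x v ∈ P)
    {g : V ≃ₗ[ZMod p] V} (hg : g ∈ H) (g1 : ∀ v ∈ R, g v = v) (g2 : ∀ v ∈ P, g v - v ∈ R)
    (g3 : ∀ v, g v - v ∈ P) : g = 1 := by
  let N : Subgroup H :=
  { carrier := {x | (∀ v ∈ R, (x : V ≃ₗ[ZMod p] V) v = v) ∧
      (∀ v ∈ P, (x : V ≃ₗ[ZMod p] V) v - v ∈ R) ∧ ∀ v, (x : V ≃ₗ[ZMod p] V) v - v ∈ P}
    one_mem' := ⟨by simp, by simp, by simp⟩
    mul_mem' := by
      rintro x y ⟨x1, x2, x3⟩ ⟨y1, y2, y3⟩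
      refine ⟨fun v hv => ?_, fun v hv => ?_, fun v => ?_⟩
      · show (x : V ≃ₗ[ZMod p] V) ((y : V ≃ₗ[ZMod p] V) v) = v
        rw [y1 v hv, x1 v hv]
      · show (x : V ≃ₗ[ZMod p] V) ((y : V ≃ₗ[ZMod p] V) v) - v ∈ R
        have hy : (y : V ≃ₗ[ZMod p] V) v ∈ P := hP _ y.2 v hv
        simpa using R.add_mem (x2 _ hy) (y2 v hv)
      · show (x : V ≃ₗ[ZMod p] V) ((y : V ≃ₗ[ZMod p] V) v) - v ∈ P
        simpa using P.add_mem (x3 ((y : V ≃ₗ[ZMod p] V) v)) (y3 v)
    inv_mem' := by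
      rintro x ⟨x1, x2, x3⟩
      have hx : ∀ v, (x : V ≃ₗ[ZMod p] V) ((x : V ≃ₗ[ZMod p] V).symm v) = v :=
        fun v => LinearEquiv.apply_symm_apply _ v
      refine ⟨fun v hv => ?_, fun v hv => ?_, fun v => ?_⟩
      · show (x : V ≃ₗ[ZMod p] V).symm v = v
        rw [LinearEquiv.symm_apply_eq, x1 v hv]
      · show (x : V ≃ₗ[ZMod p] V).symm v - v ∈ R
        have hy : (x : V ≃ₗ[ZMod p] V).symm v ∈ P := hP _ (H.inv_mem x.2) v hv
        have := x2 _ hy
        rw [hx] at this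
        simpa using R.neg_mem this
      · show (x : V ≃ₗ[ZMod p] V).symm v - v ∈ P
        have := x3 ((x : V ≃ₗ[ZMod p] V).symm v)
        rw [hx] at this
        simpa using P.neg_mem this }
  have hn : N.Normal := by
    refine ⟨fun n hn x => ?_⟩
    obtain ⟨n1, n2, n3⟩ := hn
    have ha : ∀ v, ((x * n * x⁻¹ : H) : V ≃ₗ[ZMod p] V) v - v =
        (x : V ≃ₗ[ZMod p] V) ((n : V ≃ₗ[ZMod p] V) ((x : V ≃ₗ[ZMod p] V).symm v) -
          (x : V ≃ₗ[ZMod p] V).symm v) := fun v => by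
      rw [map_sub, LinearEquiv.apply_symm_apply]; rfl
    refine ⟨fun v hv => ?_, fun v hv => ?_, fun v => ?_⟩
    · rw [← sub_eq_zero, ha, n1 ((x : V ≃ₗ[ZMod p] V).symm v) (hR _ (H.inv_mem x.2) v hv)]
      simp
    · rw [ha]; exact hR _ x.2 _ (n2 _ (hP _ (H.inv_mem x.2) v hv))
    · rw [ha]; exact hP _ x.2 _ (n3 _)
  have hp' : IsPGroup p N := by
    intro x
    refine ⟨1, ?_⟩
    obtain ⟨⟨x, hx⟩, h1, h2, h3⟩ := x
    rw [pow_one]
    apply Subtype.ext
    apply Subtype.ext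
    refine pow_eq_one_of_cube hp fun v => ?_
    exact h1 _ (h2 _ (h3 v))
  have hle : N ≤ Cfsg.pCore p H := le_sSup ⟨hn, hp'⟩
  rw [hO, le_bot_iff] at hle
  have : (⟨g, hg⟩ : H) ∈ N := ⟨g1, g2, g3⟩
  rw [hle, Subgroup.mem_bot] at this
  exact congrArg Subtype.val this

/-- an invariant subspace containing the centre and killed by the axis -/
theorem axis_eq_zero (hp : 3 ≤ p) (hO : Cfsg.pCore p H = ⊥) {P : Submodule (ZMod p) V}
    (hP : ∀ x ∈ H, ∀ v ∈ P, x v ∈ P) {a : V} (ha : a ∈ P) (ha0 : a ≠ 0)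
    {φ : Dual (ZMod p) V} (hφ : φ ∈ axes H a) (hk : ∀ v ∈ P, φ v = 0) : φ = 0 := by
  obtain ⟨-, g, hg, t⟩ := (mem_axes H).1 hφ
  have h1 : g = 1 := eq_one_of_chain H hp hO (bot_le : ⊥ ≤ P)
    (fun x _ v hv => by simp [(Submodule.mem_bot _).1 hv]) hP hg
    (fun v hv => by simp [(Submodule.mem_bot _).1 hv])
    (fun v hv => by simp [t v, hk v hv])
    (fun v => by rw [t v, add_sub_cancel_left]; exact P.smul_mem _ ha)
  refine LinearMap.ext fun v => ?_
  have h2 := t v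
  rw [h1] at h2
  simpa [ha0] using h2.symm

/-- The relation `Sees` is symmetric between centres. -/
theorem sees_symm (hp : 3 ≤ p) (hO : Cfsg.pCore p H = ⊥) {c e : V} (hc0 : c ≠ 0)
    (he : axes H e ≠ ⊥) (h : Sees H c e) : Sees H e c := by
  by_contra hn
  have sub : ∀ {c e : V}, Sees H c e → ¬ Sees H e c → axes H e < axes H c := by
    intro c e h hn
    obtain ⟨χ, hχ, hχe⟩ := h
    refine lt_of_le_of_ne (fun η hη => axes_transfer H hη hχ ?_ hχe) fun heq => hχe ?_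
    · by_contra h0; exact hn ⟨η, hη, h0⟩
    · exact ((mem_axes H).1 (heq ▸ hχ)).1
  set D := finrank (ZMod p) (axes H c)
  let S : Set V := {x | D ≤ finrank (ZMod p) (axes H x)}
  let P : Submodule (ZMod p) V := Submodule.span (ZMod p) S
  have hlt : finrank (ZMod p) (axes H e) < D := Submodule.finrank_lt_finrank_of_lt (sub h hn)
  have hP : ∀ x ∈ H, ∀ v ∈ P, x v ∈ P := by
    intro x hx v hv
    have : P.map (x : V →ₗ[ZMod p] V) ≤ P := by
      rw [Submodule.map_span, Submodule.span_le]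
      rintro _ ⟨u, hu, rfl⟩
      refine Submodule.subset_span ?_
      show D ≤ finrank (ZMod p) (axes H (x u))
      rw [finrank_axes_conj H hx]; exact hu
    exact this (Submodule.mem_map_of_mem hv)
  obtain ⟨η, hη, hη0⟩ := Submodule.exists_mem_ne_zero_of_ne_bot he
  have hηS : ∀ x ∈ S, η x = 0 := by
    intro x hx
    by_contra hne
    have hex : Sees H e x := ⟨η, hη, hne⟩
    by_cases hxe : Sees H x e
    · obtain ⟨y, hy, k, hk, hyx⟩ := exists_conj_of_sees H hex hxe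
      have h3 := finrank_axes_conj H hy x
      rw [hyx, axes_smul H hk] at h3
      have : D ≤ finrank (ZMod p) (axes H x) := hx
      omega
    · have h4 := Submodule.finrank_lt_finrank_of_lt (sub hex hxe)
      have : D ≤ finrank (ZMod p) (axes H x) := hx
      omega
  have hηc : η ∈ axes H c := (sub h hn).le hη
  exact hη0 (axis_eq_zero H hp hO hP (Submodule.subset_span (show c ∈ S from (le_refl D : D ≤ _))) hc0 hηc
    fun v hv => (Submodule.span_le.2 (show S ⊆ (LinearMap.ker η : Set V) from hηS)) hv)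

end Chain

end Cfsg.Agent.McLaughlin
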