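import Cfsg.Agent.Lib.McLaughlin.Component
import Cfsg.Agent.Lib.Classical.SL
import Cfsg.Agent.Lib.Classical.AlternatingForm
import Mathlib.LinearAlgebra.Matrix.ToLin
import Mathlib.LinearAlgebra.Matrix.Basis

/-!
The group generated by the transvections of a component induces on its span the special linear
group or the isometry group of a non-degenerate alternating form.
-/

set_option autoImplicit false

noncomputable section

namespace Cfsg.Agent.McLaughlin

open Module
open LinearMap (BilinForm)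

/-- the special linear group of a vector space is generated by its transvections -/
theorem mem_of_det_eq_one {F : Type*} [Field F] {W : Type*} [AddCommGroup W] [Module F W]
    [FiniteDimensional F W] (M : Subgroup (W ≃ₗ[F] W))
    (hM : ∀ (a : W) (φ : Dual F W) (h : φ a = 0), LinearEquiv.transvection (f := φ) (v := a) h ∈ M)
    {g : W ≃ₗ[F] W} (hg : LinearMap.det (g : W →ₗ[F] W) = 1) : g ∈ M := by
  classical
  let b := Module.finBasis F W
  rcases Nat.lt_or_ge (finrank F W) 2 with hlt | hge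
  · have : g = 1 := by
      refine LinearEquiv.toLinearMap_injective ((LinearMap.toMatrix b b).injective ?_)
      haveI : Subsingleton (Fin (finrank F W)) := Fin.subsingleton_iff_le_one.2 (by omega)
      rw [← LinearMap.det_toMatrix b] at hg
      ext i j
      obtain rfl := Subsingleton.elim i j
      rw [Matrix.det_eq_elem_of_subsingleton _ i] at hg
      simp [hg]
    rw [this]; exact M.one_mem
  haveI : Nontrivial (Fin (finrank F W)) := Fin.nontrivial_iff_two_le.2 hge
  let e := Matrix.toLinAlgEquiv b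
  let Φ : Matrix.SpecialLinearGroup (Fin (finrank F W)) F →* (W ≃ₗ[F] W) :=
    ((LinearMap.GeneralLinearGroup.generalLinearEquiv F W).toMonoidHom.comp
      (Units.map (e : Matrix (Fin (finrank F W)) (Fin (finrank F W)) F →* Module.End F W))).comp
      Matrix.SpecialLinearGroup.toGL
  have hΦ : ∀ A v, Φ A v = e (A : Matrix (Fin (finrank F W)) (Fin (finrank F W)) F) v :=
    fun A v => rfl
  have hle : (⊤ : Subgroup _) ≤ M.comap Φ := by
    rw [← ClassicalSL.closure_elemTransvections, Subgroup.closure_le]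
    rintro _ ⟨i, j, hij, c, rfl⟩
    show Φ _ ∈ M
    have h0 : (c • b.coord j) (b i) = 0 := by simp [Finsupp.single_eq_of_ne hij.symm]
    have : Φ (Matrix.SpecialLinearGroup.transvection hij c) =
        LinearEquiv.transvection (f := c • b.coord j) (v := b i) h0 := by
      refine LinearEquiv.toLinearMap_injective (b.ext fun k => ?_)
      show Φ _ (b k) = _
      rw [hΦ, LinearEquiv.coe_coe, LinearEquiv.transvection.apply]
      simp only [e, Matrix.toLinAlgEquiv_self, LinearMap.smul_apply, Basis.coord_apply,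
        Basis.repr_self, smul_eq_mul, Matrix.SpecialLinearGroup.transvection_coe]
      simp [Matrix.transvection, Matrix.one_apply, Matrix.single_apply, add_smul,
        Finset.sum_add_distrib, Finsupp.single_apply, ite_smul, ite_and]
      rcases eq_or_ne k j with rfl | hkj
      · simp
      · simp [hkj, hkj.symm]
    rw [this]
    exact hM _ _ _
  have hdet : (LinearMap.toMatrix b b (g : W →ₗ[F] W)).det = 1 := by
    rw [LinearMap.det_toMatrix]; exact hg
  have : Φ ⟨_, hdet⟩ = g := by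
    refine LinearEquiv.ext fun v => ?_
    show e (LinearMap.toMatrix b b (g : W →ₗ[F] W)) v = _
    exact LinearMap.congr_fun (Matrix.toLin_toMatrix b b (g : W →ₗ[F] W)) v
  rw [← this]
  exact hle (Subgroup.mem_top _)

variable {p : ℕ} [Fact p.Prime] {V : Type*} [AddCommGroup V] [Module (ZMod p) V]
  [FiniteDimensional (ZMod p) V] {H : Subgroup (V ≃ₗ[ZMod p] V)}

variable (H) in
/-- the subgroup generated by the transvections with centre in a component -/
def compGroup (a₀ : V) : Subgroup (V ≃ₗ[ZMod p] V) :=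
  Subgroup.closure {g | g ∈ H ∧ ∃ a ∈ Comp H a₀, ∃ φ, φ a = 0 ∧ Tv g a φ}

theorem compGroup_le (a₀ : V) : compGroup H a₀ ≤ H :=
  (Subgroup.closure_le _).2 fun _ hg => hg.1

namespace Setting

variable (S : Setting H)
include S

/-- restriction of the component group to the component -/
def restrict (a₀ : V) : compGroup H a₀ →* (span₀ H a₀ ≃ₗ[ZMod p] span₀ H a₀) where
  toFun g := LinearEquiv.ofLinear
    (((g : V ≃ₗ[ZMod p] V).toLinearMap).restrict
      (S.span_invariant _ (compGroup_le a₀ g.2)))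
    (((g : V ≃ₗ[ZMod p] V).symm.toLinearMap).restrict
      (S.span_invariant _ (H.inv_mem (compGroup_le a₀ g.2))))
    (LinearMap.ext fun v => Subtype.ext ((g : V ≃ₗ[ZMod p] V).apply_symm_apply _))
    (LinearMap.ext fun v => Subtype.ext ((g : V ≃ₗ[ZMod p] V).symm_apply_apply _))
  map_one' := LinearEquiv.ext fun _ => rfl
  map_mul' _ _ := LinearEquiv.ext fun _ => rfl

theorem restrict_apply (a₀ : V) (g : compGroup H a₀) (v : span₀ H a₀) :
    ((S.restrict a₀ g v : span₀ H a₀) : V) = (g : V ≃ₗ[ZMod p] V) v := rfl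

theorem tv_mem_range {a₀ a : V} (ha : a ∈ Comp H a₀) {φ : Dual (ZMod p) V} (hφ : φ ∈ axes H a)
    (f : span₀ H a₀ ≃ₗ[ZMod p] span₀ H a₀)
    (hf : ∀ v : span₀ H a₀, (f v : V) = (v : V) + φ v • a) : f ∈ (S.restrict a₀).range := by
  obtain ⟨h0, g, hg, t⟩ := (mem_axes H).1 hφ
  refine ⟨⟨g, Subgroup.subset_closure ⟨hg, a, ha, φ, h0, t⟩⟩,
    LinearEquiv.ext fun v => Subtype.ext ?_⟩
  rw [S.restrict_apply, hf]
  exact t v

theorem range_le {a₀ : V} (M : Subgroup (span₀ H a₀ ≃ₗ[ZMod p] span₀ H a₀))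
    (hM : ∀ a ∈ Comp H a₀, ∀ φ ∈ axes H a, ∀ f : span₀ H a₀ ≃ₗ[ZMod p] span₀ H a₀,
      (∀ v : span₀ H a₀, (f v : V) = (v : V) + φ v • a) → f ∈ M) :
    (S.restrict a₀).range ≤ M := by
  rintro _ ⟨⟨g, hg⟩, rfl⟩
  induction hg using Subgroup.closure_induction with
  | mem g hg =>
    obtain ⟨hgH, a, ha, φ, h0, t⟩ := hg
    exact hM a ha φ ((mem_axes H).2 ⟨h0, g, hgH, t⟩) _ fun v => t v
  | one => exact map_one (S.restrict a₀) ▸ M.one_mem
  | mul g h hg hh ihg ihh =>
    have := M.mul_mem ihg ihh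
    rwa [← map_mul] at this
  | inv g hg ih =>
    have := M.inv_mem ih
    rwa [← map_inv] at this

theorem axes_surj {a₀ a : V} (h₀ : IsC H a₀) (ha : a ∈ Comp H a₀)
    (h2 : 2 ≤ finrank (ZMod p) (axes H a₀)) (ψ : Dual (ZMod p) (span₀ H a₀))
    (hψ : ψ ⟨a, Submodule.subset_span ha⟩ = 0) :
    ∃ φ ∈ axes H a, φ.comp (span₀ H a₀).subtype = ψ := by
  let N : Submodule (ZMod p) (Dual (ZMod p) (span₀ H a₀)) :=
    (axes H a).map (span₀ H a₀).subtype.dualMap
  have hco : N.dualCoannihilator ≤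
      Submodule.span (ZMod p) {(⟨a, Submodule.subset_span ha⟩ : span₀ H a₀)} := by
    intro u hu
    rw [Submodule.mem_dualCoannihilator] at hu
    obtain ⟨c, hc⟩ := Submodule.mem_span_singleton.1
      (S.eq_smul_of_killed h₀ ha h2 u.2 fun φ hφ => hu _ ⟨φ, hφ, rfl⟩)
    exact Submodule.mem_span_singleton.2 ⟨c, Subtype.ext hc⟩
  have hmem : ψ ∈ N.dualCoannihilator.dualAnnihilator := by
    rw [Submodule.mem_dualAnnihilator]
    intro u hu
    obtain ⟨c, rfl⟩ := Submodule.mem_span_singleton.1 (hco hu)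
    rw [map_smul, hψ, smul_zero]
  rw [Subspace.dualCoannihilator_dualAnnihilator_eq] at hmem
  obtain ⟨φ, hφ, e⟩ := hmem
  exact ⟨φ, hφ, e⟩

theorem range_eq_sl {a₀ : V} (h₀ : IsC H a₀) (h2 : 2 ≤ finrank (ZMod p) (axes H a₀)) :
    ((S.restrict a₀).range : Set (span₀ H a₀ ≃ₗ[ZMod p] span₀ H a₀)) =
      {f : span₀ H a₀ ≃ₗ[ZMod p] span₀ H a₀ |
        LinearMap.det (f : span₀ H a₀ →ₗ[ZMod p] span₀ H a₀) = 1} := by
  refine Set.Subset.antisymm ?_ ?_
  · intro f hf
    let M : Subgroup (span₀ H a₀ ≃ₗ[ZMod p] span₀ H a₀) :=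
      (LinearEquiv.det (R := ZMod p) (M := span₀ H a₀)).ker
    have hf' : f ∈ M := S.range_le M (fun a ha φ hφ f hf => ?_) hf
    · have := congrArg Units.val (MonoidHom.mem_ker.1 hf')
      simpa [LinearEquiv.coe_det] using this
    · refine MonoidHom.mem_ker.2 (Units.ext ?_)
      rw [LinearEquiv.coe_det]
      have e : (f : span₀ H a₀ →ₗ[ZMod p] span₀ H a₀) = LinearMap.transvection
          (φ.comp (span₀ H a₀).subtype) ⟨a, Submodule.subset_span ha⟩ :=
        LinearMap.ext fun v => Subtype.ext (by simp [hf v, LinearMap.transvection.apply])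
      rw [e, LinearMap.transvection.det]
      simp [((mem_axes H).1 hφ).1]
  · intro f hf
    refine mem_of_det_eq_one _ (fun x ψ h => ?_) hf
    rcases eq_or_ne x 0 with rfl | hx
    · rw [show LinearEquiv.transvection h = 1 from
        LinearEquiv.ext fun v => by simp [LinearEquiv.transvection.apply]]
      exact (S.restrict a₀).range.one_mem
    have hxC : (x : V) ∈ Comp H a₀ :=
      S.mem_comp_of_span h₀ x.2 (fun h => hx (Subtype.ext h))
    obtain ⟨φ, hφ, e⟩ := S.axes_surj h₀ hxC h2 ψ h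
    refine S.tv_mem_range hxC hφ _ fun v => ?_
    rw [LinearEquiv.transvection.apply, ← e]
    rfl

theorem axes_eq_smul {a₀ a : V} (ha : a ∈ Comp H a₀)
    (h1 : finrank (ZMod p) (axes H a₀) ≤ 1) {η θ : Dual (ZMod p) V} (hη : η ∈ axes H a)
    (hθ : θ ∈ axes H a) (h0 : η ≠ 0) : ∃ c : ZMod p, θ = c • η := by
  have hle : finrank (ZMod p) (axes H a) ≤ 1 := by rw [S.finrank_axes_comp ha]; exact h1
  have : axes H a = Submodule.span (ZMod p) {η} := by
    refine (Submodule.eq_of_le_of_finrank_le ?_ ?_).symm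
    · rwa [Submodule.span_le, Set.singleton_subset_iff]
    · rw [finrank_span_singleton h0]; exact hle
  rw [this, Submodule.mem_span_singleton] at hθ
  obtain ⟨c, hc⟩ := hθ
  exact ⟨c, hc.symm⟩

/-- with one axis per centre the axes come from a non-degenerate alternating form -/
theorem exists_form {a₀ : V} (h₀ : IsC H a₀) (h1 : finrank (ZMod p) (axes H a₀) ≤ 1) :
    ∃ B : BilinForm (ZMod p) (span₀ H a₀), B.IsAlt ∧ B.Nondegenerate ∧
      ∀ (x : span₀ H a₀), x ≠ 0 → ∀ φ ∈ axes H (x : V),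
        ∃ c : ZMod p, ∀ w : span₀ H a₀, φ w = c * B x w := by
  classical
  have ha₀ : a₀ ∈ Comp H a₀ := mem_self h₀
  obtain ⟨φ₀, hφ₀, hφ₀0⟩ := Submodule.exists_mem_ne_zero_of_ne_bot h₀.2
  let s : Set (span₀ H a₀) := {x | φ₀ x ≠ 0}
  have hsC : ∀ x ∈ s, (x : V) ∈ Comp H a₀ := fun x hx => S.mem_comp_of_span h₀ x.2
    fun h => hx (by rw [h, map_zero])
  obtain ⟨e, he, hφe⟩ := S.exists_seen_mem ha₀ hφ₀ hφ₀0
  let e' : span₀ H a₀ := ⟨e, Submodule.subset_span he⟩
  have hspan : Submodule.span (ZMod p) s = ⊤ := by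
    refine eq_top_iff.2 fun w _ => ?_
    by_cases h : φ₀ w = 0
    · have : w = (w + e') - e' := by abel
      rw [this]
      refine sub_mem (Submodule.subset_span ?_) (Submodule.subset_span hφe)
      show φ₀ ((w : V) + e) ≠ 0
      rw [map_add, h, zero_add]; exact hφe
    · exact Submodule.subset_span h
  have hσ : ∀ x : s, ∃ η ∈ axes H ((x : span₀ H a₀) : V), η ≠ 0 ∧
      η a₀ = -φ₀ ((x : span₀ H a₀) : V) := by
    intro x
    obtain ⟨η, hη, hη0⟩ := S.symm h₀ (hsC _ x.2).1 ⟨φ₀, hφ₀, x.2⟩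
    refine ⟨(-φ₀ ((x : span₀ H a₀) : V) / η a₀) • η, Submodule.smul_mem _ _ hη, ?_, ?_⟩
    · intro h
      have := LinearMap.congr_fun h a₀
      simp [hη0, x.2] at this
      exact x.2 this
    · simp [hη0]
  choose σ hσm hσ0 hσa using hσ
  -- antisymmetry
  have anti : ∀ x y : s, σ x ((y : span₀ H a₀) : V) = -σ y ((x : span₀ H a₀) : V) := by
    intro x y
    have hx := hsC _ x.2
    have hy := hsC _ y.2
    by_cases hs : σ x ((y : span₀ H a₀) : V) = 0
    · by_contra hne
      obtain ⟨θ, hθ, hθy⟩ := S.symm hy.1 hx.1 ⟨σ y, hσm y, fun h => hne (by rw [hs, h, neg_zero])⟩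
      obtain ⟨c, rfl⟩ := S.axes_eq_smul hx h1 (hσm x) hθ (hσ0 x)
      exact hθy (by simp [hs])
    set k := -σ x ((y : span₀ H a₀) : V) / φ₀ ((y : span₀ H a₀) : V) with hk
    obtain ⟨-, t, ht, tt⟩ :=
      (mem_axes H).1 ((axes H a₀).smul_mem (k / φ₀ ((x : span₀ H a₀) : V)) hφ₀)
    have htx : t ((x : span₀ H a₀) : V) = ((x : span₀ H a₀) : V) + k • a₀ := by
      rw [tt, LinearMap.smul_apply, smul_eq_mul, div_mul_cancel₀ _ x.2]
    have hax := axes_conj H ht (hσm x)
    rw [htx] at hax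
    have hx' : ((x : span₀ H a₀) : V) + k • a₀ ∈ Comp H a₀ :=
      S.line_mem ha₀ hx.1 ⟨φ₀, hφ₀, x.2⟩ k
    have hts : ∀ v, (σ x).comp t.symm.toLinearMap v = σ x v + k * φ₀ v := by
      intro v
      have h' : t.symm v = v + (-((k / φ₀ ((x : span₀ H a₀) : V)) • φ₀) v) • a₀ :=
        tv_symm tt (by simp [((mem_axes H).1 hφ₀).1]) v
      show σ x (t.symm v) = _
      rw [h', map_add, map_smul, hσa x]
      simp only [LinearMap.smul_apply, smul_eq_mul]
      have : φ₀ ((x : span₀ H a₀) : V) ≠ 0 := x.2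
      field_simp
    have hne' : (σ x).comp t.symm.toLinearMap ≠ 0 := by
      intro h
      have h' := hts a₀
      rw [h, hσa x, ((mem_axes H).1 hφ₀).1] at h'
      simp at h'
      exact x.2 h'
    have hy0 : (σ x).comp t.symm.toLinearMap ((y : span₀ H a₀) : V) = 0 := by
      rw [hts, hk, div_mul_cancel₀ _ y.2, add_neg_cancel]
    have hno : σ y (((x : span₀ H a₀) : V) + k • a₀) = 0 := by
      by_contra hne
      obtain ⟨θ, hθ, hθy⟩ := S.symm hy.1 hx'.1 ⟨σ y, hσm y, hne⟩
      obtain ⟨c, rfl⟩ := S.axes_eq_smul hx' h1 hax hθ hne'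
      exact hθy (by rw [LinearMap.smul_apply, hy0, smul_zero])
    rw [map_add, map_smul, smul_eq_mul, hσa y] at hno
    have h2 := div_mul_cancel₀ (-σ x ((y : span₀ H a₀) : V)) y.2
    rw [← hk] at h2
    linear_combination h2 + hno
  -- extend by linearity
  obtain ⟨t, hts, htspan, htli⟩ := exists_linearIndependent (ZMod p) s
  rw [hspan] at htspan
  let b : Basis t (ZMod p) (span₀ H a₀) := Basis.mk htli (by rw [Subtype.range_coe, htspan])
  let B : BilinForm (ZMod p) (span₀ H a₀) :=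
    (b.constr (ZMod p) fun i => -((σ ⟨i, hts i.2⟩).comp (span₀ H a₀).subtype)).flip
  have hBσ : ∀ x : s, B (x : span₀ H a₀) = (σ x).comp (span₀ H a₀).subtype := by
    intro x
    refine b.ext fun i => ?_
    show (b.constr (ZMod p) fun i => -((σ ⟨i, hts i.2⟩).comp (span₀ H a₀).subtype)) (b i) x = _
    rw [Basis.constr_basis]
    simp only [b, Basis.coe_mk, LinearMap.neg_apply, LinearMap.comp_apply]
    exact (anti x ⟨i, hts i.2⟩).symm
  have hsw : ∀ x y, B x y = -B y x := by
    have : B = -B.flip := by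
      refine LinearMap.ext_on hspan fun x hx => ?_
      refine LinearMap.ext_on hspan fun y hy => ?_
      show B x y = -B y x
      rw [hBσ ⟨x, hx⟩, hBσ ⟨y, hy⟩]
      exact anti ⟨x, hx⟩ ⟨y, hy⟩
    exact fun x y => LinearMap.congr_fun (LinearMap.congr_fun this x) y
  have hA : B.IsAlt := by
    intro x
    have := hsw x x
    have h2 : (2 : ZMod p) * B x x = 0 := by linear_combination this
    exact (mul_eq_zero.1 h2).resolve_left S.two_ne_zero
  have key : ∀ x : span₀ H a₀, x ≠ 0 → ∀ φ ∈ axes H (x : V), φ ≠ 0 →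
      B x ≠ 0 ∧ ∃ c : ZMod p, ∀ w : span₀ H a₀, φ w = c * B x w := by
    intro x hx φ hφ hφ0
    have hxC : (x : V) ∈ Comp H a₀ := S.mem_comp_of_span h₀ x.2 fun h => hx (Subtype.ext h)
    have hiff : ∀ v : s, φ ((v : span₀ H a₀) : V) = 0 ↔ B x v = 0 := by
      intro v
      have hv := hsC _ v.2
      rw [hsw x v, neg_eq_zero, hBσ v]
      show φ _ = 0 ↔ σ v (x : V) = 0
      constructor
      · intro h
        by_contra hne
        obtain ⟨θ, hθ, hθv⟩ := S.symm hv.1 hxC.1 ⟨σ v, hσm v, hne⟩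
        obtain ⟨c, rfl⟩ := S.axes_eq_smul hxC h1 hφ hθ hφ0
        exact hθv (by rw [LinearMap.smul_apply, h, smul_zero])
      · intro h
        by_contra hne
        obtain ⟨θ, hθ, hθx⟩ := S.symm hxC.1 hv.1 ⟨φ, hφ, hne⟩
        obtain ⟨c, rfl⟩ := S.axes_eq_smul hv h1 (hσm v) hθ (hσ0 v)
        exact hθx (by rw [LinearMap.smul_apply, h, smul_zero])
    obtain ⟨v₀, hv₀⟩ : ∃ v₀ : s, φ ((v₀ : span₀ H a₀) : V) ≠ 0 := by
      by_contra hne
      simp only [not_exists, not_not] at hne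
      refine hφ0 (S.axis_inj hxC hφ fun v hv => ?_)
      have : φ.comp (span₀ H a₀).subtype = 0 :=
        LinearMap.ext_on hspan fun w hw => hne ⟨w, hw⟩
      exact LinearMap.congr_fun this ⟨v, hv⟩
    have hB0 : B x v₀ ≠ 0 := fun h => hv₀ ((hiff v₀).2 h)
    refine ⟨fun h => hB0 (by rw [h]; rfl), φ ((v₀ : span₀ H a₀) : V) / B x v₀, fun w => ?_⟩
    set u := w - (φ (w : V) / φ ((v₀ : span₀ H a₀) : V)) • (v₀ : span₀ H a₀) with hu
    have hφu : φ (u : V) = 0 := by simp [hu, hv₀]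
    have hBu : B x u = 0 := by
      by_contra hne
      set u' := (v₀ : span₀ H a₀) - (B x v₀ / B x u) • u with hu'
      have h3 : B x u' = 0 := by simp [hu', hne]
      have h4 : φ (u' : V) ≠ 0 := by simp [hu', hφu, hv₀]
      have hu0 : φ₀ (u : V) = 0 := by
        by_contra h; exact hne ((hiff ⟨u, h⟩).1 hφu)
      have hu's : u' ∈ s := by
        show φ₀ (u' : V) ≠ 0
        simp [hu', hu0]
        exact v₀.2
      exact h4 ((hiff ⟨u', hu's⟩).2 h3)
    rw [hu, map_sub, map_smul, sub_eq_zero, smul_eq_mul] at hBu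
    rw [hBu]
    field_simp
  have hsep : ∀ x, (∀ w, B x w = 0) → x = 0 := by
    intro x hx
    by_contra hx0
    have hxC : (x : V) ∈ Comp H a₀ := S.mem_comp_of_span h₀ x.2 fun h => hx0 (Subtype.ext h)
    obtain ⟨φ, hφ, hφ0⟩ := Submodule.exists_mem_ne_zero_of_ne_bot hxC.1.2
    exact (key x hx0 φ hφ hφ0).1 (LinearMap.ext hx)
  refine ⟨B, hA, ⟨hsep, fun x hx => hsep x fun w => by rw [hsw, hx, neg_zero]⟩,
    fun x hx φ hφ => ?_⟩
  rcases eq_or_ne φ 0 with rfl | hφ0
  · exact ⟨0, by simp⟩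
  · exact (key x hx φ hφ hφ0).2

theorem range_eq_sp {a₀ : V} (h₀ : IsC H a₀) (h1 : finrank (ZMod p) (axes H a₀) ≤ 1) :
    ∃ B : BilinForm (ZMod p) (span₀ H a₀), B.IsAlt ∧ B.Nondegenerate ∧
      ((S.restrict a₀).range : Set (span₀ H a₀ ≃ₗ[ZMod p] span₀ H a₀)) =
        {f | ∀ x y, B (f x) (f y) = B x y} := by
  obtain ⟨B, hA, hB, hax⟩ := S.exists_form h₀ h1
  refine ⟨B, hA, hB, congrArg SetLike.coe (show (S.restrict a₀).range = AltForm.isoGroup B from
    le_antisymm ?_ ?_)⟩
  · refine S.range_le _ fun a ha φ hφ f hf => ?_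
    obtain ⟨c, hc⟩ := hax ⟨a, Submodule.subset_span ha⟩
      (fun h => ha.1.1 (congrArg Subtype.val h)) φ hφ
    refine AltForm.transvGroup_le hA (Subgroup.subset_closure
      ⟨⟨a, Submodule.subset_span ha⟩, -c, fun v => Subtype.ext ?_⟩)
    rw [hf v, hc v, AltForm.swap hA v ⟨a, Submodule.subset_span ha⟩]
    simp
  · rw [AltForm.isoGroup_eq_transvGroup hA hB, AltForm.transvGroup, Subgroup.closure_le]
    rintro f ⟨w, c, hf⟩
    rcases eq_or_ne w 0 with rfl | hw
    · rw [show f = 1 from LinearEquiv.ext fun v => by simp [hf]]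
      exact (S.restrict a₀).range.one_mem
    have hwC : (w : V) ∈ Comp H a₀ := S.mem_comp_of_span h₀ w.2 fun h => hw (Subtype.ext h)
    obtain ⟨φ, hφ, hφ0⟩ := Submodule.exists_mem_ne_zero_of_ne_bot hwC.1.2
    obtain ⟨d, hd⟩ := hax w hw φ hφ
    have hd0 : d ≠ 0 := by
      rintro rfl
      exact hφ0 (S.axis_inj hwC hφ fun v hv => by simpa using hd ⟨v, hv⟩)
    refine S.tv_mem_range hwC (Submodule.smul_mem _ (-c / d) hφ) f fun v => ?_
    rw [hf v, AltForm.swap hA w v]
    simp only [LinearMap.smul_apply, hd, smul_eq_mul, Submodule.coe_add, Submodule.coe_smul]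
    field_simp

end Setting

end Cfsg.Agent.McLaughlin
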