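import Cfsg.Agent.Lib.McLaughlin.Basic

/-!
Connected components of transvection centres: any two points have a common neighbour, the
centres of a component together with `0` form a subspace, and on it the axes of a centre are
either full or a single line.
-/

set_option autoImplicit false

noncomputable section

namespace Cfsg.Agent.McLaughlin

open Module

variable {p : ℕ} [Fact p.Prime] {V : Type*} [AddCommGroup V] [Module (ZMod p) V]
  [FiniteDimensional (ZMod p) V] (H : Subgroup (V ≃ₗ[ZMod p] V))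

/-- `a` is the centre of a transvection in `H` -/
def IsC (a : V) : Prop := a ≠ 0 ∧ axes H a ≠ ⊥

/-- two centres, one seeing the other -/
def Link (a b : V) : Prop := IsC H a ∧ IsC H b ∧ Sees H a b

/-- the component of a centre -/
def Comp (a₀ : V) : Set V := {x | IsC H x ∧ Relation.ReflTransGen (Link H) a₀ x}

/-- the group is generated by its transvections and has no normal `p`-subgroup -/
structure Setting : Prop where
  three : 3 ≤ p
  core : Cfsg.pCore p H = ⊥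
  gen : H ≤ Subgroup.closure {g | g ∈ H ∧ ∃ a φ, φ a = 0 ∧ Tv g a φ}

variable {H}

theorem isC_smul {c : ZMod p} (hc : c ≠ 0) {a : V} (h : IsC H a) : IsC H (c • a) :=
  ⟨smul_ne_zero hc h.1, by rw [axes_smul H hc]; exact h.2⟩

theorem isC_conj {x : V ≃ₗ[ZMod p] V} (hx : x ∈ H) {a : V} (h : IsC H a) : IsC H (x a) := by
  refine ⟨fun h0 => h.1 (x.injective (by rw [h0, map_zero])), fun hb => ?_⟩
  obtain ⟨φ, hφ, h0⟩ := Submodule.exists_mem_ne_zero_of_ne_bot h.2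
  have := axes_conj H hx hφ
  rw [hb, Submodule.mem_bot] at this
  exact h0 (LinearMap.ext fun v => by simpa using LinearMap.congr_fun this (x v))

namespace Setting

variable (S : Setting H)
include S

theorem two_ne_zero : (2 : ZMod p) ≠ 0 := by
  intro h
  have h2 : ((2 : ℕ) : ZMod p) = 0 := by exact_mod_cast h
  rw [ZMod.natCast_eq_zero_iff] at h2
  have := Nat.le_of_dvd two_pos h2
  have := S.three
  omega

/-- invariance of a subspace follows from invariance under transvections -/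
theorem invariant {P : Submodule (ZMod p) V}
    (hP : ∀ a φ, φ ∈ axes H a → ∀ v ∈ P, v + φ v • a ∈ P) :
    ∀ x ∈ H, ∀ v ∈ P, x v ∈ P := by
  intro x hx
  have hx' := S.gen hx
  clear hx
  induction hx' using Subgroup.closure_induction with
  | mem g hg =>
    obtain ⟨hgH, a, φ, h0, t⟩ := hg
    intro v hv
    rw [t v]
    exact hP a φ ((mem_axes H).2 ⟨h0, g, hgH, t⟩) v hv
  | one => exact fun v hv => hv
  | mul g h _ _ hg hh => exact fun v hv => hg _ (hh v hv)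
  | inv g _ hg =>
    intro v hv
    have hmap : P.map (g : V →ₗ[ZMod p] V) = P :=
      Submodule.eq_of_le_of_finrank_eq (by rintro _ ⟨u, hu, rfl⟩; exact hg u hu)
        (LinearEquiv.finrank_map_eq g P)
    rw [← hmap] at hv
    obtain ⟨u, hu, rfl⟩ := hv
    show g.symm (g u) ∈ P
    rwa [g.symm_apply_apply]

theorem symm {a b : V} (ha : IsC H a) (hb : IsC H b) (h : Sees H a b) : Sees H b a :=
  sees_symm H S.three S.core ha.1 hb.2 h

/-- a nonzero axis does not vanish at all centres -/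
theorem exists_seen {a : V} (ha : IsC H a) {φ : Dual (ZMod p) V} (hφ : φ ∈ axes H a)
    (h0 : φ ≠ 0) : ∃ e, IsC H e ∧ φ e ≠ 0 := by
  by_contra hne
  simp only [not_exists, not_and, not_not] at hne
  let P : Submodule (ZMod p) V := Submodule.span (ZMod p) {e | IsC H e}
  have hinv : ∀ x ∈ H, ∀ v ∈ P, x v ∈ P := fun x hx v hv => by
    have : P.map (x : V →ₗ[ZMod p] V) ≤ P := by
      rw [Submodule.map_span, Submodule.span_le]
      rintro _ ⟨u, hu, rfl⟩
      exact Submodule.subset_span (isC_conj hx hu)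
    exact this (Submodule.mem_map_of_mem hv)
  exact h0 (axis_eq_zero H S.three S.core hinv (Submodule.subset_span ha) ha.1 hφ
    fun v hv => (Submodule.span_le.2 (show {e | IsC H e} ⊆ (LinearMap.ker φ : Set V) from
      fun e he => hne e he)) hv)

omit S in
theorem mem_self {a₀ : V} (h : IsC H a₀) : a₀ ∈ Comp H a₀ := ⟨h, Relation.ReflTransGen.refl⟩

omit S in
theorem mem_of_sees {a₀ a b : V} (ha : a ∈ Comp H a₀) (hb : IsC H b) (h : Sees H a b) :
    b ∈ Comp H a₀ := ⟨hb, ha.2.tail ⟨ha.1, hb, h⟩⟩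

theorem mem_of_sees' {a₀ a b : V} (ha : a ∈ Comp H a₀) (hb : IsC H b) (h : Sees H b a) :
    b ∈ Comp H a₀ := mem_of_sees ha hb (S.symm hb ha.1 h)

theorem line_mem {a₀ a b : V} (ha : a ∈ Comp H a₀) (hb : IsC H b) (h : Sees H a b) (c : ZMod p) :
    b + c • a ∈ Comp H a₀ := by
  obtain ⟨x, hx, e⟩ := sees_add H h c
  obtain ⟨φ, hφ, hφb⟩ := h
  refine mem_of_sees ha (e ▸ isC_conj hx hb) ⟨φ, hφ, ?_⟩
  simp [((mem_axes H).1 hφ).1, hφb]

theorem smul_mem {a₀ a : V} (ha : a ∈ Comp H a₀) {c : ZMod p} (hc : c ≠ 0) :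
    c • a ∈ Comp H a₀ := by
  obtain ⟨φ, hφ, h0⟩ := Submodule.exists_mem_ne_zero_of_ne_bot ha.1.2
  obtain ⟨e, he, hφe⟩ := S.exists_seen ha.1 hφ h0
  have h1 : Sees H a e := ⟨φ, hφ, hφe⟩
  have hem := mem_of_sees ha he h1
  exact mem_of_sees hem (isC_smul hc ha.1) ((sees_smul_right H hc).2 (S.symm ha.1 he h1))

/-- any two points of a component have a common neighbour -/
theorem exists_common {a₀ x y : V} (hx : x ∈ Comp H a₀) (hy : y ∈ Comp H a₀) :
    ∃ d ∈ Comp H a₀, Sees H x d ∧ Sees H y d := by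
  have base : ∀ z ∈ Comp H a₀, ∃ d ∈ Comp H a₀, Sees H z d := by
    intro z hz
    obtain ⟨φ, hφ, h0⟩ := Submodule.exists_mem_ne_zero_of_ne_bot hz.1.2
    obtain ⟨e, he, hφe⟩ := S.exists_seen hz.1 hφ h0
    exact ⟨e, mem_of_sees hz he ⟨φ, hφ, hφe⟩, φ, hφ, hφe⟩
  -- one step
  have step : ∀ c e, c ∈ Comp H a₀ → e ∈ Comp H a₀ → Sees H c e → ∀ x ∈ Comp H a₀,
      (∃ d ∈ Comp H a₀, Sees H x d ∧ Sees H c d) → ∃ d ∈ Comp H a₀, Sees H x d ∧ Sees H e d := by
    intro c e hc he hce x hx ⟨d, hd, hxd, hcd⟩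
    by_cases hed : Sees H e d
    · exact ⟨d, hd, hxd, hed⟩
    by_cases hxc : Sees H x c
    · exact ⟨c, hc, hxc, S.symm hc.1 he.1 hce⟩
    refine ⟨c + (1 : ZMod p) • d, S.line_mem hd hc.1 (S.symm hc.1 hd.1 hcd) 1, ?_, ?_⟩
    · obtain ⟨φ, hφ, hφd⟩ := hxd
      refine ⟨φ, hφ, ?_⟩
      have : φ c = 0 := by by_contra h; exact hxc ⟨φ, hφ, h⟩
      simp [this, hφd]
    · obtain ⟨η, hη, hηc⟩ := S.symm hc.1 he.1 hce
      refine ⟨η, hη, ?_⟩
      have : η d = 0 := by by_contra h; exact hed ⟨η, hη, h⟩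
      simp [this, hηc]
  have fwd : ∀ z, Relation.ReflTransGen (Link H) a₀ z → ∀ x ∈ Comp H a₀,
      (∃ d ∈ Comp H a₀, Sees H x d ∧ Sees H a₀ d) → ∃ d ∈ Comp H a₀, Sees H x d ∧ Sees H z d := by
    intro z hz
    induction hz with
    | refl => exact fun x _ h => h
    | tail hab hbc ih =>
      intro x hx h
      exact step _ _ ⟨hbc.1, hab⟩ ⟨hbc.2.1, hab.tail hbc⟩ hbc.2.2 x hx (ih x hx h)
  have ha₀ : a₀ ∈ Comp H a₀ := by
    refine mem_self ?_
    rcases hx.2.cases_head with h | ⟨b, hb, -⟩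
    · exact h ▸ hx.1
    · exact hb.1
  obtain ⟨d₀, hd₀, h₀⟩ := base a₀ ha₀
  obtain ⟨d, hd, h1, h2⟩ := fwd x hx.2 a₀ ha₀ ⟨d₀, hd₀, h₀, h₀⟩
  exact fwd y hy.2 x hx ⟨d, hd, h2, h1⟩

end Setting

variable (H) in
/-- the span of a component -/
def span₀ (a₀ : V) : Submodule (ZMod p) V := Submodule.span (ZMod p) (Comp H a₀)

variable (H) in
/-- the part of the span killed by all axes of the component -/
def rad (a₀ : V) : Submodule (ZMod p) V where
  carrier := {v | v ∈ span₀ H a₀ ∧ ∀ x ∈ Comp H a₀, ∀ φ ∈ axes H x, φ v = 0}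
  zero_mem' := ⟨zero_mem _, fun x _ φ _ => map_zero φ⟩
  add_mem' := fun {u v} hu hv => ⟨add_mem hu.1 hv.1, fun x hx φ hφ => by
    rw [map_add, hu.2 x hx φ hφ, hv.2 x hx φ hφ, add_zero]⟩
  smul_mem' := fun c v hv => ⟨Submodule.smul_mem _ c hv.1, fun x hx φ hφ => by
    rw [map_smul, hv.2 x hx φ hφ, smul_zero]⟩

namespace Setting

variable (S : Setting H)
include S

theorem span_invariant {a₀ : V} : ∀ x ∈ H, ∀ v ∈ span₀ H a₀, x v ∈ span₀ H a₀ := by
  refine S.invariant fun a φ hφ v hv => ?_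
  rcases eq_or_ne a 0 with rfl | ha0
  · simpa using hv
  rcases eq_or_ne φ 0 with rfl | hφ0
  · simpa using hv
  have ha : IsC H a := ⟨ha0, fun h => hφ0 ((Submodule.mem_bot _).1 (h ▸ hφ))⟩
  by_cases hmem : a ∈ Comp H a₀
  · exact Submodule.add_mem _ hv (Submodule.smul_mem _ _ (Submodule.subset_span hmem))
  · have hz : span₀ H a₀ ≤ LinearMap.ker φ := Submodule.span_le.2 fun x hx => by
      by_contra hne
      exact hmem (S.mem_of_sees' hx ha ⟨φ, hφ, hne⟩)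
    simpa [LinearMap.mem_ker.1 (hz hv)] using hv

theorem axis_inj {a₀ a : V} (ha : a ∈ Comp H a₀) {φ : Dual (ZMod p) V} (hφ : φ ∈ axes H a)
    (h : ∀ v ∈ span₀ H a₀, φ v = 0) : φ = 0 :=
  axis_eq_zero H S.three S.core S.span_invariant (Submodule.subset_span ha) ha.1.1 hφ h

theorem exists_seen_mem {a₀ a : V} (ha : a ∈ Comp H a₀) {φ : Dual (ZMod p) V}
    (hφ : φ ∈ axes H a) (h : φ ≠ 0) : ∃ e ∈ Comp H a₀, φ e ≠ 0 := by
  obtain ⟨e, he, hne⟩ := S.exists_seen ha.1 hφ h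
  exact ⟨e, mem_of_sees ha he ⟨φ, hφ, hne⟩, hne⟩

theorem not_mem_rad {a₀ a : V} (ha : a ∈ Comp H a₀) : a ∉ rad H a₀ := by
  intro h
  obtain ⟨d, hd, had, -⟩ := S.exists_common ha ha
  obtain ⟨χ, hχ, hne⟩ := S.symm ha.1 hd.1 had
  exact hne (h.2 d hd χ hχ)

theorem add_mem_of_sees_sum {a₀ a b d : V} (ha : a ∈ Comp H a₀) (hb : b ∈ Comp H a₀)
    (hd : d ∈ Comp H a₀) (had : Sees H a d) (hbd : Sees H b d) (hab : ¬ Sees H b a)
    (h : Sees H d (a + b)) : a + b ∈ Comp H a₀ := by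
  have h1 := S.line_mem hd ha.1 (S.symm ha.1 hd.1 had) 1
  have h2 : Sees H b (a + (1 : ZMod p) • d) := by
    obtain ⟨ψ, hψ, hne⟩ := hbd
    refine ⟨ψ, hψ, ?_⟩
    have : ψ a = 0 := by by_contra h; exact hab ⟨ψ, hψ, h⟩
    simp [this, hne]
  have h3 := S.line_mem hb h1.1 h2 1
  have h4 : Sees H d (a + (1 : ZMod p) • d + (1 : ZMod p) • b) := by
    obtain ⟨χ, hχ, hne⟩ := h
    refine ⟨χ, hχ, ?_⟩
    simpa [((mem_axes H).1 hχ).1] using hne
  have h5 := S.line_mem hd h3.1 h4 (-1)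
  convert h5 using 1
  simp only [one_smul, neg_smul]
  abel

/-- the sum of two points of a component is a point of it or is killed by all its axes -/
theorem add_mem_or {a₀ a b : V} (ha : a ∈ Comp H a₀) (hb : b ∈ Comp H a₀) :
    a + b ∈ rad H a₀ ∨ a + b ∈ Comp H a₀ := by
  by_cases hab : Sees H a b
  · refine Or.inr ?_
    have := S.line_mem ha hb.1 hab 1
    rwa [one_smul, add_comm] at this
  have hba : ¬ Sees H b a := fun h => hab (S.symm hb.1 ha.1 h)
  by_cases hr : a + b ∈ rad H a₀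
  · exact Or.inl hr
  refine Or.inr ?_
  have hspan : a + b ∈ span₀ H a₀ :=
    add_mem (Submodule.subset_span ha) (Submodule.subset_span hb)
  have : ∃ g ∈ Comp H a₀, Sees H g (a + b) := by
    by_contra hne
    exact hr ⟨hspan, fun x hx φ hφ => by_contra fun h => hne ⟨x, hx, φ, hφ, h⟩⟩
  obtain ⟨g, hg, γ, hγ, hγs⟩ := this
  wlog hγa : γ a ≠ 0 generalizing a b
  · have hγb : γ b ≠ 0 := by
      intro h
      apply hγs
      rw [map_add, h, add_zero]
      exact not_not.1 hγa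
    have := this hb ha hba hab (by rwa [add_comm]) (by rwa [add_comm])
      (by rwa [add_comm]) hγb
    rwa [add_comm]
  have hag : Sees H a g := S.symm hg.1 ha.1 ⟨γ, hγ, hγa⟩
  by_cases hgb : Sees H g b
  · exact S.add_mem_of_sees_sum ha hb hg hag (S.symm hg.1 hb.1 hgb) hba ⟨γ, hγ, hγs⟩
  obtain ⟨h, hh, hgh, hbh⟩ := S.exists_common hg hb
  -- an axis of `g` seeing both `a + b` and `h`
  obtain ⟨γ₀, hγ₀, hγ₀s, hγ₀h⟩ : ∃ γ₀ ∈ axes H g, γ₀ (a + b) ≠ 0 ∧ γ₀ h ≠ 0 := by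
    by_cases h1 : γ h = 0
    · obtain ⟨γ', hγ', hne⟩ := hgh
      by_cases h2 : γ' (a + b) = 0
      · exact ⟨γ + γ', add_mem hγ hγ', by simp only [LinearMap.add_apply, h2, add_zero]; exact hγs,
          by simp only [LinearMap.add_apply, h1, zero_add]; exact hne⟩
      · exact ⟨γ', hγ', h2, hne⟩
    · exact ⟨γ, hγ, hγs, h1⟩
  obtain ⟨χ, hχ, hχg⟩ := S.symm hg.1 hh.1 hgh
  obtain ⟨φ, hφ, hφg⟩ := hag
  obtain ⟨ψ, hψ, hψh⟩ := hbh
  have hψg : ψ g = 0 := by
    by_contra h0; exact hgb (S.symm hb.1 hg.1 ⟨ψ, hψ, h0⟩)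
  obtain ⟨k, hk1, hk2⟩ : ∃ k : ZMod p, k ≠ -(φ h) / φ g ∧
      k ≠ χ (a + b) * γ₀ h / (γ₀ (a + b) * χ g) := by
    have hlt : ({-(φ h) / φ g, χ (a + b) * γ₀ h / (γ₀ (a + b) * χ g)} : Finset (ZMod p)).card <
        Fintype.card (ZMod p) := by
      rw [ZMod.card]
      have := Finset.card_le_two (a := -(φ h) / φ g)
        (b := χ (a + b) * γ₀ h / (γ₀ (a + b) * χ g))
      have := S.three
      omega
    rw [← Finset.card_univ] at hlt
    obtain ⟨k, -, hk⟩ := Finset.exists_mem_notMem_of_card_lt_card hlt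
    simp only [Finset.mem_insert, Finset.mem_singleton, not_or] at hk
    exact ⟨k, hk.1, hk.2⟩
  obtain ⟨hγg, t, ht, tt⟩ := (mem_axes H).1 ((axes H g).smul_mem (k / γ₀ h) hγ₀)
  have hd : t h = h + k • g := by
    rw [tt h, LinearMap.smul_apply, smul_eq_mul, div_mul_cancel₀ _ hγ₀h]
  have hdm : t h ∈ Comp H a₀ := hd ▸ S.line_mem hg hh.1 ⟨γ₀, hγ₀, hγ₀h⟩ k
  refine S.add_mem_of_sees_sum ha hb hdm ⟨φ, hφ, ?_⟩ ⟨ψ, hψ, ?_⟩ hba
    ⟨_, axes_conj H ht hχ, ?_⟩
  · rw [hd, map_add, map_smul, smul_eq_mul]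
    intro h0
    exact hk1 (by rw [eq_div_iff hφg]; linear_combination h0)
  · simp [hd, hψg, hψh]
  · have hs : t.symm (a + b) = (a + b) + (-((k / γ₀ h) • γ₀) (a + b)) • g :=
      tv_symm tt hγg (a + b)
    show χ (t.symm (a + b)) ≠ 0
    rw [hs, LinearMap.smul_apply, map_add χ (a + b), map_smul, smul_eq_mul, smul_eq_mul]
    intro h0
    apply hk2
    field_simp at h0
    rw [eq_div_iff (mul_ne_zero hγ₀s hχg)]
    linear_combination -h0

theorem three_sum {a₀ a b c : V} (ha : a ∈ Comp H a₀) (hb : b ∈ Comp H a₀)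
    (hc : c ∈ Comp H a₀) : ∃ x ∈ Comp H a₀, ∃ y ∈ Comp H a₀, a + b + c = x + y := by
  rcases S.add_mem_or ha hb with h1 | h1
  swap; · exact ⟨_, h1, c, hc, rfl⟩
  rcases S.add_mem_or ha hc with h2 | h2
  swap; · exact ⟨_, h2, b, hb, by abel⟩
  rcases S.add_mem_or hb hc with h3 | h3
  swap; · exact ⟨_, h3, a, ha, by abel⟩
  exfalso
  have h4 : (2 : ZMod p) • a ∈ rad H a₀ := by
    rw [show (2 : ZMod p) • a = (a + b) + (a + c) - (b + c) by rw [two_smul]; abel]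
    exact sub_mem (add_mem h1 h2) h3
  have := (rad H a₀).smul_mem (2 : ZMod p)⁻¹ h4
  rw [smul_smul, inv_mul_cancel₀ S.two_ne_zero, one_smul] at this
  exact S.not_mem_rad ha this

theorem mem_span_iff {a₀ v : V} (hv : v ∈ span₀ H a₀) :
    v = 0 ∨ v ∈ Comp H a₀ ∨ ∃ x ∈ Comp H a₀, ∃ y ∈ Comp H a₀, v = x + y := by
  induction hv using Submodule.span_induction with
  | mem x hx => exact Or.inr (Or.inl hx)
  | zero => exact Or.inl rfl
  | add u w _ _ hu hw =>
    have one : ∀ u x, x ∈ Comp H a₀ →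
        (u = 0 ∨ u ∈ Comp H a₀ ∨ ∃ s ∈ Comp H a₀, ∃ t ∈ Comp H a₀, u = s + t) →
        (u + x = 0 ∨ u + x ∈ Comp H a₀ ∨ ∃ s ∈ Comp H a₀, ∃ t ∈ Comp H a₀, u + x = s + t) := by
      intro u x hx hu
      rcases hu with rfl | hu | ⟨s, hs, t, ht, rfl⟩
      · exact Or.inr (Or.inl (by rwa [zero_add]))
      · exact Or.inr (Or.inr ⟨u, hu, x, hx, rfl⟩)
      · exact Or.inr (Or.inr (S.three_sum hs ht hx))
    rcases hw with rfl | hw | ⟨s, hs, t, ht, rfl⟩
    · simpa using hu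
    · exact one u w hw hu
    · rw [← add_assoc]; exact one _ t ht (one u s hs hu)
  | smul c u _ hu =>
    rcases eq_or_ne c 0 with rfl | hc
    · exact Or.inl (zero_smul _ _)
    rcases hu with rfl | hu | ⟨s, hs, t, ht, rfl⟩
    · exact Or.inl (smul_zero _)
    · exact Or.inr (Or.inl (S.smul_mem hu hc))
    · exact Or.inr (Or.inr ⟨_, S.smul_mem hs hc, _, S.smul_mem ht hc, smul_add c s t⟩)

theorem mem_comp_of_not_mem_rad {a₀ v : V} (hv : v ∈ span₀ H a₀) (h : v ∉ rad H a₀) :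
    v ∈ Comp H a₀ := by
  rcases S.mem_span_iff hv with rfl | hv | ⟨x, hx, y, hy, rfl⟩
  · exact (h (zero_mem _)).elim
  · exact hv
  · exact (S.add_mem_or hx hy).resolve_left h

/-- two orthogonal points with a common nonzero axis have the same axes -/
theorem axes_le_of_common {a₀ a b : V} (ha : a ∈ Comp H a₀) (hb : b ∈ Comp H a₀)
    (hab : ¬ Sees H a b) {φ : Dual (ZMod p) V} (hφa : φ ∈ axes H a) (hφb : φ ∈ axes H b)
    (h0 : φ ≠ 0) : axes H a ≤ axes H b := by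
  obtain ⟨x, hx, hφx⟩ := S.exists_seen_mem ha hφa h0
  intro η hη
  set η' := η - (η x / φ x) • φ with hη'
  have h1 : η' ∈ axes H a := sub_mem hη (Submodule.smul_mem _ _ hφa)
  have hx0 : η' x = 0 := by simp [hη', hφx]
  obtain ⟨ψ, hψ, hψa⟩ := S.symm ha.1 hx.1 ⟨φ, hφa, hφx⟩
  have h2 : η' ∈ axes H x := axes_transfer H h1 hψ hx0 hψa
  have hb0 : η' b = 0 := by by_contra h; exact hab ⟨η', h1, h⟩
  have h3 : η' ∈ axes H b := axes_transfer H h2 hφb hb0 hφx
  have := add_mem h3 (Submodule.smul_mem (axes H b) (η x / φ x) hφb)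
  simpa [hη'] using this

theorem axes_eq_of_common {a₀ a b : V} (ha : a ∈ Comp H a₀) (hb : b ∈ Comp H a₀)
    (hab : ¬ Sees H a b) {φ : Dual (ZMod p) V} (hφa : φ ∈ axes H a) (hφb : φ ∈ axes H b)
    (h0 : φ ≠ 0) : axes H a = axes H b :=
  le_antisymm (S.axes_le_of_common ha hb hab hφa hφb h0)
    (S.axes_le_of_common hb ha (fun h => hab (S.symm hb.1 ha.1 h)) hφb hφa h0)

theorem rad_fixed {a₀ : V} : ∀ x ∈ H, ∀ v ∈ rad H a₀, x v = v := by
  intro x hx
  have hx' := S.gen hx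
  clear hx
  induction hx' using Subgroup.closure_induction with
  | mem g hg =>
    obtain ⟨hgH, a, φ, h0, t⟩ := hg
    intro v hv
    rw [t v]
    rcases eq_or_ne a 0 with rfl | ha0
    · simp
    rcases eq_or_ne φ 0 with rfl | hφ0
    · simp
    have hφ : φ ∈ axes H a := (mem_axes H).2 ⟨h0, g, hgH, t⟩
    have ha : IsC H a := ⟨ha0, fun h => hφ0 ((Submodule.mem_bot _).1 (h ▸ hφ))⟩
    have : φ v = 0 := by
      by_cases hmem : a ∈ Comp H a₀
      · exact hv.2 a hmem φ hφ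
      · exact (show span₀ H a₀ ≤ LinearMap.ker φ from Submodule.span_le.2 fun y hy => by
          by_contra hne
          exact hmem (S.mem_of_sees' hy ha ⟨φ, hφ, hne⟩)) hv.1
    simp [this]
  | one => exact fun v _ => rfl
  | mul g h _ _ hg hh =>
    intro v hv
    show g (h v) = v
    rw [hh v hv, hg v hv]
  | inv g _ hg =>
    intro v hv
    show g.symm v = v
    rw [LinearEquiv.symm_apply_eq, hg v hv]

theorem exists_axes_agree {a₀ a r e : V} (ha : a ∈ Comp H a₀) (hr : r ∈ rad H a₀)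
    (ha' : a + r ∈ Comp H a₀) (he : e ∈ Comp H a₀) (hae : Sees H a e) :
    ∃ φ ∈ axes H a, ∃ φ' ∈ axes H (a + r), φ e ≠ 0 ∧ ∀ v ∈ span₀ H a₀, φ v = φ' v := by
  obtain ⟨η, hη, hηa⟩ := S.symm ha.1 he.1 hae
  obtain ⟨φ, hφ, hφe⟩ := hae
  have hae' : Sees H e (a + r) := ⟨η, hη, by simp [hr.2 e he η hη, hηa]⟩
  have horth : ¬ Sees H a (a + r) := by
    rintro ⟨θ, hθ, h⟩
    exact h (by rw [map_add, ((mem_axes H).1 hθ).1, hr.2 a ha θ hθ, add_zero])
  have hev : ∀ θ ∈ axes H e, θ (a + r) = θ a := fun θ hθ => by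
    rw [map_add, hr.2 e he θ hθ, add_zero]
  by_cases hM : ∃ μ ∈ axes H e, μ a = 0 ∧ μ ≠ 0
  · obtain ⟨μ, hμ, hμa, hμ0⟩ := hM
    obtain ⟨φ₁, hφ₁, hne⟩ := S.symm he.1 ha'.1 hae'
    have m1 : μ ∈ axes H a := axes_transfer H hμ hφ hμa hφe
    have m2 : μ ∈ axes H (a + r) := axes_transfer H hμ hφ₁ (by rw [hev μ hμ, hμa]) hne
    exact ⟨φ, hφ, φ, S.axes_eq_of_common ha ha' horth m1 m2 hμ0 ▸ hφ, hφe, fun v _ => rfl⟩
  obtain ⟨φ', hφ', hφ'e⟩ := S.symm he.1 ha'.1 hae'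
  refine ⟨φ, hφ, (φ e / φ' e) • φ', Submodule.smul_mem _ _ hφ', hφe, ?_⟩
  have prop : ∀ θ ∈ axes H a, θ = (θ e / φ e) • φ := by
    intro θ hθ
    by_contra hne
    refine hM ⟨θ - (θ e / φ e) • φ, ?_, ?_, sub_ne_zero.2 hne⟩
    · exact axes_transfer H (sub_mem hθ (Submodule.smul_mem _ _ hφ)) hη (by simp [hφe]) hηa
    · simp [((mem_axes H).1 hθ).1, ((mem_axes H).1 hφ).1]
  intro v hv
  set w := v - (φ v / φ e) • e with hw
  have hwP : w ∈ span₀ H a₀ := sub_mem hv (Submodule.smul_mem _ _ (Submodule.subset_span he))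
  have h1 : φ w = 0 := by simp [hw, hφe]
  have h2 : φ' w = 0 := by
    by_cases hwr : w ∈ rad H a₀
    · exact hwr.2 _ ha' φ' hφ'
    have hwC := S.mem_comp_of_not_mem_rad hwP hwr
    by_contra hne
    obtain ⟨ω, hω, hωa⟩ := S.symm ha'.1 hwC.1 ⟨φ', hφ', hne⟩
    rw [map_add, hr.2 w hwC ω hω, add_zero] at hωa
    obtain ⟨θ, hθ, hθw⟩ := S.symm hwC.1 ha.1 ⟨ω, hω, hωa⟩
    apply hθw
    rw [prop θ hθ, LinearMap.smul_apply, h1, smul_zero]
  rw [hw, map_sub, map_smul, smul_eq_mul, sub_eq_zero] at h2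
  rw [LinearMap.smul_apply, smul_eq_mul, h2]
  field_simp

theorem rad_eq_bot {a₀ : V} (h₀ : IsC H a₀) : rad H a₀ = ⊥ := by
  rw [Submodule.eq_bot_iff]
  intro r hr
  have ha : a₀ ∈ Comp H a₀ := mem_self h₀
  have haP : a₀ ∈ span₀ H a₀ := Submodule.subset_span ha
  have ha' : a₀ + r ∈ Comp H a₀ := by
    refine S.mem_comp_of_not_mem_rad (add_mem haP hr.1) fun h => S.not_mem_rad ha ?_
    simpa using sub_mem h hr
  obtain ⟨e, he, hae, -⟩ := S.exists_common ha ha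
  obtain ⟨φ, hφ, φ', hφ', hφe, hagree⟩ := S.exists_axes_agree ha hr ha' he hae
  obtain ⟨hφa, g, hg, tg⟩ := (mem_axes H).1 hφ
  obtain ⟨-, g', hg', tg'⟩ := (mem_axes H).1 hφ'
  have hφ'a : φ' a₀ = 0 := by rw [← hagree a₀ haP, hφa]
  have hn : ∀ v, (g' * g⁻¹) v - v = φ' v • (a₀ + r) - φ v • a₀ := by
    intro v
    show g' (g.symm v) - v = _
    have hs : g.symm v = v + (-φ v) • a₀ := tv_symm tg hφa v
    rw [hs, tg', map_add, map_smul, hφ'a, smul_zero, add_zero, neg_smul]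
    abel
  have h1 : g' * g⁻¹ = 1 := by
    refine eq_one_of_chain H S.three S.core (R := rad H a₀) (P := span₀ H a₀)
      (fun x hx => hx.1) (fun x hx v hv => by rw [S.rad_fixed x hx v hv]; exact hv)
      S.span_invariant (H.mul_mem hg' (H.inv_mem hg)) ?_ ?_ ?_
    · exact fun v hv => S.rad_fixed _ (H.mul_mem hg' (H.inv_mem hg)) v hv
    · intro v hv
      rw [hn, ← hagree v hv, smul_add, add_sub_cancel_left]
      exact Submodule.smul_mem _ _ hr
    · intro v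
      rw [hn]
      exact sub_mem (Submodule.smul_mem _ _ (add_mem haP hr.1)) (Submodule.smul_mem _ _ haP)
  have h2 := hn e
  rw [h1, ← hagree e (Submodule.subset_span he), smul_add, add_sub_cancel_left] at h2
  have h3 : φ e • r = 0 := by
    rw [← h2]
    simp
  exact (smul_eq_zero.1 h3).resolve_left hφe

theorem mem_comp_of_span {a₀ v : V} (h₀ : IsC H a₀) (hv : v ∈ span₀ H a₀) (h0 : v ≠ 0) :
    v ∈ Comp H a₀ :=
  S.mem_comp_of_not_mem_rad hv (by rw [S.rad_eq_bot h₀, Submodule.mem_bot]; exact h0)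

theorem finrank_axes_comp {a₀ a : V} (ha : a ∈ Comp H a₀) :
    finrank (ZMod p) (axes H a) = finrank (ZMod p) (axes H a₀) := by
  obtain ⟨-, h⟩ := ha
  induction h with
  | refl => rfl
  | tail _ hbc ih =>
    obtain ⟨hb, hc, hs⟩ := hbc
    obtain ⟨x, hx, k, hk, e⟩ := exists_conj_of_sees H hs (S.symm hb hc hs)
    rw [← ih, ← finrank_axes_conj H hx, e, axes_smul H hk]

/-- with at least two independent axes per centre, axes restricted to the component are full -/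
theorem eq_smul_of_killed {a₀ a u : V} (h₀ : IsC H a₀) (ha : a ∈ Comp H a₀)
    (h2 : 2 ≤ finrank (ZMod p) (axes H a₀)) (hu : u ∈ span₀ H a₀)
    (hk : ∀ φ ∈ axes H a, φ u = 0) : u ∈ Submodule.span (ZMod p) {a} := by
  obtain ⟨e, he, hae, -⟩ := S.exists_common ha ha
  obtain ⟨η, hη, hηa⟩ := S.symm ha.1 he.1 hae
  -- an axis shared by `a` and `e`
  obtain ⟨μ, hμa, hμ0, hμe⟩ : ∃ μ ∈ axes H a, μ ≠ 0 ∧ μ e = 0 := by
    let ev : axes H a →ₗ[ZMod p] ZMod p :=
      { toFun := fun φ => (φ : Dual (ZMod p) V) e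
        map_add' := fun _ _ => rfl
        map_smul' := fun _ _ => rfl }
    have hk : LinearMap.ker ev ≠ ⊥ := by
      intro hb
      have := LinearMap.finrank_le_finrank_of_injective (LinearMap.ker_eq_bot.1 hb)
      rw [Module.finrank_self, S.finrank_axes_comp ha] at this
      omega
    obtain ⟨μ, hμ, hμ0⟩ := Submodule.exists_mem_ne_zero_of_ne_bot hk
    exact ⟨μ, μ.2, fun h => hμ0 (Subtype.ext h), hμ⟩
  have hμE : μ ∈ axes H e := axes_transfer H hμa hη hμe hηa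
  set w := u - (η u / η a) • a with hw
  have haP : a ∈ span₀ H a₀ := Submodule.subset_span ha
  have hwP : w ∈ span₀ H a₀ := sub_mem hu (Submodule.smul_mem _ _ haP)
  by_cases hw0 : w = 0
  · rw [hw, sub_eq_zero] at hw0
    rw [hw0]
    exact Submodule.smul_mem _ _ (Submodule.mem_span_singleton_self a)
  exfalso
  have hwC := S.mem_comp_of_span h₀ hwP hw0
  have hwk : ∀ φ ∈ axes H a, φ w = 0 := fun φ hφ => by
    simp [hw, hk φ hφ, ((mem_axes H).1 hφ).1]
  have horth : ¬ Sees H a w := fun ⟨φ, hφ, h⟩ => h (hwk φ hφ)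
  obtain ⟨φe, hφe, hφee⟩ := hae
  have hew : ¬ Sees H e w := by
    rintro ⟨θ, hθ, h⟩
    set θ' := θ - (θ a / η a) • η with hθ'
    have h1 : θ' ∈ axes H a := axes_transfer H
      (sub_mem hθ (Submodule.smul_mem _ _ hη)) hφe (by simp [hθ', hηa]) hφee
    have h3 : η w = 0 := by simp [hw, hηa]
    have h4 := hwk θ' h1
    simp [hθ', h3] at h4
    exact h h4
  have hμw : μ ∈ axes H w := by
    obtain ⟨d, hd, had, hwd⟩ := S.exists_common ha hwC
    obtain ⟨φd, hφd, hne⟩ := S.symm ha.1 hd.1 had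
    obtain ⟨ψ, hψ, hψd⟩ := hwd
    obtain ⟨φa, hφa, hφad⟩ := had
    have hker : ∃ ν ∈ axes H a, ν ≠ 0 ∧ ν d = 0 := by
      by_cases h : μ d = 0
      · exact ⟨μ, hμa, hμ0, h⟩
      refine ⟨φe - (φe d / μ d) • μ, sub_mem hφe (Submodule.smul_mem _ _ hμa), ?_, by simp [h]⟩
      intro h0
      have := LinearMap.congr_fun h0 e
      simp [hμe, hφee] at this
    obtain ⟨ν, hν, hν0, hνd⟩ := hker
    have hνd' : ν ∈ axes H d := axes_transfer H hν hφd hνd hne
    have hνw : ν ∈ axes H w := axes_transfer H hνd' hψ (hwk ν hν) hψd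
    exact S.axes_eq_of_common ha hwC horth hν hνw hν0 ▸ hμa
  have heq1 := S.axes_eq_of_common he hwC hew hμE hμw hμ0
  have heq2 := S.axes_eq_of_common ha hwC horth hμa hμw hμ0
  rw [heq1, ← heq2] at hη
  exact hηa ((mem_axes H).1 hη).1

end Setting

end Cfsg.Agent.McLaughlin
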