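import Cfsg.Agent.Lib.McLaughlin.Split
import Mathlib.Algebra.DirectSum.Module
import Mathlib.Data.Finite.Card
import Mathlib.Data.Fintype.BigOperators

/-!
McLaughlin over a prime field: the space is the sum of the fixed space and the spans of the
components, and the group is the direct product of the component groups.
-/

set_option autoImplicit false

noncomputable section

namespace Cfsg.Agent.McLaughlin

open Module

variable {p : ℕ} [Fact p.Prime] {V : Type*} [AddCommGroup V] [Module (ZMod p) V]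
  [FiniteDimensional (ZMod p) V]

/-- a transvection of order `p` in standard form -/
theorem exists_tv_of_order {g : V ≃ₗ[ZMod p] V} (hord : orderOf g = p)
    (hrank : finrank (ZMod p) ↥(LinearMap.ker ((g : V →ₗ[ZMod p] V) - LinearMap.id)) + 1 =
      finrank (ZMod p) V) : ∃ a φ, φ a = 0 ∧ Tv g a φ := by
  set N := (g : V →ₗ[ZMod p] V) - LinearMap.id with hN
  have hr : finrank (ZMod p) (LinearMap.range N) = 1 := by
    have := LinearMap.finrank_range_add_finrank_ker N
    omega
  obtain ⟨⟨a, ha⟩, ha0, hsp⟩ := finrank_eq_one_iff'.1 hr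
  have ha0' : a ≠ 0 := fun h => ha0 (Subtype.ext h)
  choose c hc using fun v => hsp ⟨N v, LinearMap.mem_range_self N v⟩
  have hc' : ∀ v, c v • a = N v := fun v => congrArg Subtype.val (hc v)
  let φ : Dual (ZMod p) V :=
    { toFun := c
      map_add' := fun u v => smul_left_injective (ZMod p) ha0' (by
        simp only [add_smul, hc', map_add])
      map_smul' := fun k v => smul_left_injective (ZMod p) ha0' (by
        simp only [RingHom.id_apply, smul_eq_mul, mul_smul, hc', map_smul]) }
  have htv : Tv g a φ := fun v => by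
    show g v = v + c v • a
    rw [hc' v]
    simp [hN]
  refine ⟨a, φ, ?_, htv⟩
  have hgp : g ^ p = 1 := orderOf_dvd_iff_pow_eq_one.1 (dvd_of_eq hord)
  have key : ∀ k : ℕ, (g ^ k) a = (1 + φ a) ^ k • a := by
    intro k
    induction k with
    | zero => simp
    | succ k ih =>
      rw [pow_succ', show (g * g ^ k) a = g ((g ^ k) a) from rfl, ih, map_smul, htv a, smul_add,
        pow_succ, smul_smul, mul_add, mul_one, add_smul]
  have h1 := key p
  rw [hgp, ZMod.pow_card] at h1
  have h2 : φ a • a = 0 := by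
    rw [add_smul, one_smul] at h1
    simpa using h1.symm
  exact (smul_eq_zero.1 h2).resolve_right ha0'

variable (H : Subgroup (V ≃ₗ[ZMod p] V))

/-- the vectors killed by every axis -/
def fixedPart : Submodule (ZMod p) V where
  carrier := {v | ∀ a, IsC H a → ∀ φ ∈ axes H a, φ v = 0}
  zero_mem' := fun _ _ φ _ => map_zero φ
  add_mem' := fun hu hv a ha φ hφ => by rw [map_add, hu a ha φ hφ, hv a ha φ hφ, add_zero]
  smul_mem' := fun c v hv a ha φ hφ => by rw [map_smul, hv a ha φ hφ, smul_zero]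

/-- the components -/
def comps : Set (Set V) := {C | ∃ a, IsC H a ∧ C = Comp H a}

variable {H}

namespace Setting

variable (S : Setting H)
include S

theorem path_symm {a b : V} (h : Relation.ReflTransGen (Link H) a b) :
    Relation.ReflTransGen (Link H) b a := by
  induction h with
  | refl => exact Relation.ReflTransGen.refl
  | tail _ hbc ih =>
    exact (Relation.ReflTransGen.single ⟨hbc.2.1, hbc.1, S.symm hbc.1 hbc.2.1 hbc.2.2⟩).trans ih

theorem comp_eq {a b : V} (h : b ∈ Comp H a) : Comp H b = Comp H a := by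
  ext x
  exact and_congr_right fun _ =>
    ⟨fun hx => h.2.trans hx, fun hx => (S.path_symm h.2).trans hx⟩

theorem comp_fix {a₀ : V} {g : V ≃ₗ[ZMod p] V} (hg : g ∈ compGroup H a₀) {v : V}
    (hv : ∀ x ∈ Comp H a₀, ∀ φ ∈ axes H x, φ v = 0) : g v = v := by
  induction hg using Subgroup.closure_induction with
  | mem g hg =>
    obtain ⟨hgH, a, ha, φ, h0, t⟩ := hg
    rw [t v, hv a ha φ ((mem_axes H).2 ⟨h0, g, hgH, t⟩), zero_smul, add_zero]
  | one => rfl
  | mul g h _ _ ihg ihh =>
    show g (h v) = v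
    rw [ihh, ihg]
  | inv g _ ih =>
    show g.symm v = v
    rw [LinearEquiv.symm_apply_eq, ih]

theorem comp_normal {a₀ : V} (h₀ : IsC H a₀) {x g : V ≃ₗ[ZMod p] V} (hx : x ∈ H)
    (hg : g ∈ compGroup H a₀) : x * g * x⁻¹ ∈ compGroup H a₀ := by
  induction hg using Subgroup.closure_induction with
  | mem g hg =>
    obtain ⟨hgH, a, ha, φ, h0, t⟩ := hg
    refine Subgroup.subset_closure ⟨H.mul_mem (H.mul_mem hx hgH) (H.inv_mem hx), x a, ?_, _,
      ?_, tv_conj t⟩
    · exact S.mem_comp_of_span h₀ (S.span_invariant x hx a (Submodule.subset_span ha))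
        (isC_conj hx ha.1).1
    · simp [h0]
  | one => simp
  | mul g h _ _ ihg ihh =>
    rw [show x * (g * h) * x⁻¹ = x * g * x⁻¹ * (x * h * x⁻¹) by group]
    exact Subgroup.mul_mem _ ihg ihh
  | inv g _ ih =>
    rw [show x * g⁻¹ * x⁻¹ = (x * g * x⁻¹)⁻¹ by group]
    exact Subgroup.inv_mem _ ih

/-- the structure theorem for a nonempty component list -/
theorem decomposition {n : ℕ} (r : Fin n → V) (hr : ∀ i, IsC H (r i))
    (hdisj : ∀ i j, i ≠ j → r j ∉ Comp H (r i)) (hcov : ∀ a, IsC H a → ∃ i, a ∈ Comp H (r i)) :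
    ∃ W : Fin (n + 1) → Submodule (ZMod p) V,
      (∀ i, W i.succ = span₀ H (r i)) ∧ DirectSum.IsInternal W ∧
      (∀ h ∈ H, ∀ i, (W i).map (h : V →ₗ[ZMod p] V) = W i) ∧
      ⨆ j, compGroup H (r j) = H ∧
      (∀ j, compGroup H (r j) ⊓ (⨆ j' ∈ {j' : Fin n | j' ≠ j}, compGroup H (r j')) = ⊥) ∧
      (∀ j j', j ≠ j' → ∀ a ∈ compGroup H (r j), ∀ b ∈ compGroup H (r j'), a * b = b * a) ∧
      (∀ j, ∀ h ∈ compGroup H (r j), ∀ i : Fin (n + 1), i ≠ j.succ → ∀ v ∈ W i, h v = v) := by
  classical
  have orth : ∀ i j, i ≠ j → ∀ x ∈ Comp H (r i), ∀ φ ∈ axes H x,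
      ∀ v ∈ span₀ H (r j), φ v = 0 := by
    intro i j hij x hx φ hφ
    refine fun v hv => (show span₀ H (r j) ≤ LinearMap.ker φ from
      Submodule.span_le.2 fun y hy => ?_) hv
    by_contra hne
    have h1 := mem_of_sees hx hy.1 ⟨φ, hφ, hne⟩
    exact hdisj i j hij (by rw [← S.comp_eq h1, S.comp_eq hy]; exact mem_self (hr j))
  have horth0 : ∀ i, ∀ x ∈ Comp H (r i), ∀ φ ∈ axes H x, ∀ v ∈ fixedPart H, φ v = 0 :=
    fun i x hx φ hφ v hv => hv x hx.1 φ hφ
  choose π hπ1 hπ2 hπ3 using fun i => S.exists_proj (hr i)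
  let W : Fin (n + 1) → Submodule (ZMod p) V := Fin.cons (fixedPart H) fun i => span₀ H (r i)
  have hW0 : W 0 = fixedPart H := rfl
  have hWs : ∀ i, W (Fin.succ i) = span₀ H (r i) := fun i => by simp [W]
  -- the projection kills the other summands
  have hkill : ∀ j (i : Fin (n + 1)), i ≠ j.succ → ∀ v ∈ W i,
      ∀ x ∈ Comp H (r j), ∀ φ ∈ axes H x, φ v = 0 := by
    intro j i hij v hv x hx φ hφ
    induction i using Fin.cases with
    | zero => exact horth0 j x hx φ hφ v (hW0 ▸ hv)
    | succ k => exact orth j k (fun h => hij (by rw [h])) x hx φ hφ v (hWs k ▸ hv)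
  have hrest : ∀ v, v - ∑ i, (π i v : V) ∈ fixedPart H := by
    intro v a ha φ hφ
    obtain ⟨i, hi⟩ := hcov a ha
    rw [map_sub, map_sum, Finset.sum_eq_single i (fun j _ hj => orth i j (Ne.symm hj) a hi φ hφ _
      (π j v).2) (fun h => (h (Finset.mem_univ i)).elim), ← map_sub]
    exact hπ3 i v a hi φ hφ
  have hsup : iSup W = ⊤ := by
    refine eq_top_iff.2 fun v _ => ?_
    have h1 : v - ∑ i, (π i v : V) ∈ iSup W := le_iSup W 0 (hW0 ▸ hrest v)
    have h2 : ∑ i, (π i v : V) ∈ iSup W :=
      Submodule.sum_mem _ fun i _ => le_iSup W i.succ ((hWs i).symm ▸ (π i v).2)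
    simpa using add_mem h1 h2
  have hind : iSupIndep W := by
    intro i
    rw [Submodule.disjoint_def]
    intro v hv hv'
    induction i using Fin.cases with
    | zero =>
      -- a fixed vector that is a sum of component vectors
      have hz : ∀ k, π k v = 0 := fun k => hπ2 k v fun x hx φ hφ => horth0 k x hx φ hφ v (hW0 ▸ hv)
      have hid : ∀ u ∈ (⨆ (j : Fin (n + 1)) (_ : j ≠ 0), W j),
          u = ∑ k, (π k u : V) := by
        intro u hu
        have hle : (⨆ (j : Fin (n + 1)) (_ : j ≠ 0), W j) ≤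
            LinearMap.ker (LinearMap.id - ∑ k, (span₀ H (r k)).subtype.comp (π k)) := by
          refine iSup₂_le fun j hj w hw => ?_
          obtain ⟨j, rfl⟩ := Fin.exists_succ_eq.2 hj
          rw [LinearMap.mem_ker, LinearMap.sub_apply, LinearMap.sum_apply, sub_eq_zero]
          rw [hWs] at hw
          rw [Finset.sum_eq_single j (fun k _ hk => by
            rw [LinearMap.comp_apply, hπ2 k w fun x hx φ hφ => orth k j hk x hx φ hφ w hw,
              map_zero]) (fun h => (h (Finset.mem_univ j)).elim)]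
          rw [LinearMap.comp_apply, hπ1 j ⟨w, hw⟩]
          rfl
        have := hle hu
        rw [LinearMap.mem_ker, LinearMap.sub_apply, LinearMap.sum_apply, sub_eq_zero] at this
        simpa using this
      rw [hid v hv']
      simp [hz]
    | succ j =>
      have hz : π j v = 0 := hπ2 j v fun x hx φ hφ => by
        refine (show (⨆ (i : Fin (n + 1)) (_ : i ≠ j.succ), W i) ≤ LinearMap.ker φ from
          iSup₂_le fun i hi w hw => hkill j i hi w hw x hx φ hφ) hv'
      rw [hWs] at hv
      have := hπ1 j ⟨v, hv⟩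
      rw [hz] at this
      exact (congrArg Subtype.val this).symm
  have hinv : ∀ h ∈ H, ∀ i, ∀ v ∈ W i, h v ∈ W i := by
    intro h hh i
    induction i using Fin.cases with
    | zero =>
      rw [hW0]
      refine S.invariant (fun a φ hφ v hv => ?_) h hh
      rcases eq_or_ne a 0 with rfl | ha0
      · simpa using hv
      rcases eq_or_ne φ 0 with rfl | hφ0
      · simpa using hv
      rw [hv a ⟨ha0, fun hb => hφ0 ((Submodule.mem_bot _).1 (hb ▸ hφ))⟩ φ hφ, zero_smul, add_zero]
      exact hv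
    | succ j => rw [hWs]; exact S.span_invariant h hh
  have hfix : ∀ j, ∀ h ∈ compGroup H (r j), ∀ i : Fin (n + 1), i ≠ j.succ → ∀ v ∈ W i, h v = v :=
    fun j h hh i hi v hv => S.comp_fix hh (hkill j i hi v hv)
  -- equality can be checked on the summands
  have hext : ∀ g g' : V ≃ₗ[ZMod p] V, (∀ i, ∀ v ∈ W i, g v = g' v) → g = g' := by
    intro g g' h
    refine LinearEquiv.toLinearMap_injective (LinearMap.ext fun v => ?_)
    have hle : iSup W ≤ LinearMap.ker ((g : V →ₗ[ZMod p] V) - (g' : V →ₗ[ZMod p] V)) :=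
      iSup_le fun i w hw => by simp [h i w hw]
    have := hle (hsup ▸ Submodule.mem_top (x := v))
    simpa [sub_eq_zero] using this
  refine ⟨W, hWs, (DirectSum.isInternal_submodule_iff_iSupIndep_and_iSup_eq_top W).2 ⟨hind, hsup⟩,
    fun h hh i => ?_, le_antisymm (iSup_le fun j => compGroup_le _) ?_, fun j => ?_,
    fun j j' hjj a ha b hb => ?_, hfix⟩
  · refine le_antisymm (by rintro _ ⟨v, hv, rfl⟩; exact hinv h hh i v hv) fun v hv => ?_
    exact ⟨h⁻¹ v, hinv _ (H.inv_mem hh) i v hv, h.apply_symm_apply v⟩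
  · refine le_trans S.gen ((Subgroup.closure_le _).2 ?_)
    rintro g ⟨hg, a, φ, h0, t⟩
    by_cases htriv : g = 1
    · rw [htriv]; exact Subgroup.one_mem _
    have ha0 : a ≠ 0 := by
      rintro rfl; exact htriv (LinearEquiv.ext fun v => by simp [t v])
    have hφ0 : φ ≠ 0 := by
      rintro rfl; exact htriv (LinearEquiv.ext fun v => by simp [t v])
    have hφ : φ ∈ axes H a := (mem_axes H).2 ⟨h0, g, hg, t⟩
    obtain ⟨i, hi⟩ := hcov a ⟨ha0, fun hb => hφ0 ((Submodule.mem_bot _).1 (hb ▸ hφ))⟩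
    exact Subgroup.mem_iSup_of_mem i (Subgroup.subset_closure ⟨hg, a, hi, φ, h0, t⟩)
  · rw [eq_bot_iff]
    rintro g ⟨hg, hg'⟩
    rw [Subgroup.mem_bot]
    let Fx : Subgroup (V ≃ₗ[ZMod p] V) :=
    { carrier := {g | ∀ v ∈ W j.succ, g v = v}
      one_mem' := fun v _ => rfl
      mul_mem' := fun {a b} ha hb v hv => by show a (b v) = v; rw [hb v hv, ha v hv]
      inv_mem' := fun {a} ha v hv => by
        show a.symm v = v
        rw [LinearEquiv.symm_apply_eq, ha v hv] }
    have hle : (⨆ j' ∈ {j' : Fin n | j' ≠ j}, compGroup H (r j')) ≤ Fx :=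
      iSup₂_le fun k hk g hg => hfix k g hg j.succ fun h => hk (Fin.succ_injective n h).symm
    refine hext g 1 fun i v hv => ?_
    by_cases hi : i = j.succ
    · subst hi; exact hle hg' v hv
    · exact hfix j g hg i hi v hv
  · refine hext _ _ fun i v hv => ?_
    show a (b v) = b (a v)
    by_cases hi : i = j.succ
    · subst hi
      have hne : j.succ ≠ j'.succ := fun h => hjj (Fin.succ_injective n h)
      rw [hfix j' b hb _ hne v hv,
        hfix j' b hb _ hne _ (hinv a (compGroup_le _ ha) _ v hv)]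
    · rw [hfix j a ha i hi v hv, hfix j a ha i hi _ (hinv b (compGroup_le _ hb) _ v hv)]

end Setting

end Cfsg.Agent.McLaughlin
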