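import Cfsg.Agent.Lib.McLaughlin.Classify
import Mathlib.LinearAlgebra.Dual.Lemmas

/-!
The contragredient group, and the projection of the space onto the span of a component.
-/

set_option autoImplicit false

noncomputable section

namespace Cfsg.Agent.McLaughlin

open Module

variable {p : ℕ} [Fact p.Prime] {V : Type*} [AddCommGroup V] [Module (ZMod p) V]
  [FiniteDimensional (ZMod p) V]

/-- the contragredient action on the dual space -/
def contra : (V ≃ₗ[ZMod p] V) →* (Dual (ZMod p) V ≃ₗ[ZMod p] Dual (ZMod p) V) where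
  toFun g := g.symm.dualMap
  map_one' := LinearEquiv.ext fun _ => LinearMap.ext fun _ => rfl
  map_mul' _ _ := LinearEquiv.ext fun _ => LinearMap.ext fun _ => rfl

theorem contra_apply (g : V ≃ₗ[ZMod p] V) (ψ : Dual (ZMod p) V) (v : V) :
    contra g ψ v = ψ (g.symm v) := rfl

omit [FiniteDimensional (ZMod p) V] in
theorem eq_of_forall_dual {v w : V} (h : ∀ ψ : Dual (ZMod p) V, ψ v = ψ w) : v = w := by
  rw [← sub_eq_zero, ← Module.forall_dual_apply_eq_zero_iff (ZMod p)]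
  intro ψ
  rw [map_sub, h ψ, sub_self]

theorem contra_injective :
    Function.Injective (contra : (V ≃ₗ[ZMod p] V) → _) := by
  intro g h e
  have key : ∀ v, g.symm v = h.symm v := fun v => eq_of_forall_dual fun ψ => by
    rw [← contra_apply, ← contra_apply, e]
  refine LinearEquiv.ext fun v => ?_
  apply h.symm.injective
  rw [← key (g v), g.symm_apply_apply, h.symm_apply_apply]

theorem tv_contra {g : V ≃ₗ[ZMod p] V} {a : V} {φ : Dual (ZMod p) V} (hg : Tv g a φ)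
    (h0 : φ a = 0) : Tv (contra g) φ (-(Dual.eval (ZMod p) V a)) := by
  intro ψ
  refine LinearMap.ext fun v => ?_
  have hs : g.symm v = v + (-φ v) • a := tv_symm hg h0 v
  rw [contra_apply, hs]
  simp
  ring

variable {H : Subgroup (V ≃ₗ[ZMod p] V)}

theorem mem_axes_contra {φ : Dual (ZMod p) V} {ξ : Dual (ZMod p) (Dual (ZMod p) V)} :
    ξ ∈ axes (H.map contra) φ ↔ ∃ a, ξ = Dual.eval (ZMod p) V a ∧ φ ∈ axes H a := by
  constructor
  · intro h
    obtain ⟨h0, g', ⟨g, hg, rfl⟩, t⟩ := (mem_axes _).1 h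
    obtain ⟨b, rfl⟩ := (Module.evalEquiv (ZMod p) V).surjective ξ
    refine ⟨b, rfl, ?_⟩
    have h0' : φ b = 0 := h0
    have hs : ∀ v, g.symm v = v + φ v • b := fun v => eq_of_forall_dual fun ψ => by
      have := LinearMap.congr_fun (t ψ) v
      rw [contra_apply] at this
      rw [this]
      simp [mul_comm]
    have hinv : Tv g⁻¹ b φ := hs
    exact (mem_axes H).2 ⟨h0', g⁻¹, H.inv_mem hg, hinv⟩
  · rintro ⟨a, rfl, h⟩
    obtain ⟨h0, g, hg, t⟩ := (mem_axes H).1 ((axes H a).neg_mem h)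
    have h0' : φ a = 0 := by simpa using h0
    refine (mem_axes _).2 ⟨h0', contra g, ⟨g, hg, rfl⟩, fun ψ => ?_⟩
    rw [tv_contra t h0 ψ]
    simp

/-- the axes of a component -/
def axisSpan (H : Subgroup (V ≃ₗ[ZMod p] V)) (a₀ : V) : Submodule (ZMod p) (Dual (ZMod p) V) :=
  Submodule.span (ZMod p) {φ | φ ≠ 0 ∧ ∃ x ∈ Comp H a₀, φ ∈ axes H x}

theorem isC_contra {φ : Dual (ZMod p) V} :
    IsC (H.map contra) φ ↔ φ ≠ 0 ∧ ∃ a, a ≠ 0 ∧ φ ∈ axes H a := by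
  refine and_congr_right fun hφ => ⟨fun h => ?_, ?_⟩
  · obtain ⟨ξ, hξ, h0⟩ := Submodule.exists_mem_ne_zero_of_ne_bot h
    obtain ⟨a, rfl, ha⟩ := mem_axes_contra.1 hξ
    exact ⟨a, fun h => h0 (by rw [h, map_zero]), ha⟩
  · rintro ⟨a, ha0, ha⟩ hbot
    have hm := mem_axes_contra.2 ⟨a, rfl, ha⟩
    rw [hbot, Submodule.mem_bot] at hm
    exact ha0 ((Module.evalEquiv (ZMod p) V).injective (by simpa using hm))

theorem sees_contra {φ ψ : Dual (ZMod p) V} :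
    Sees (H.map contra) φ ψ ↔ ∃ a, φ ∈ axes H a ∧ ψ a ≠ 0 := by
  constructor
  · rintro ⟨ξ, hξ, hne⟩
    obtain ⟨a, rfl, ha⟩ := mem_axes_contra.1 hξ
    exact ⟨a, ha, hne⟩
  · rintro ⟨a, ha, hne⟩
    exact ⟨_, mem_axes_contra.2 ⟨a, rfl, ha⟩, hne⟩

namespace Setting

variable (S : Setting H)
include S

theorem setting_contra : Setting (H.map contra) := by
  refine ⟨S.three, ?_, ?_⟩
  · refine eq_bot_iff.2 (sSup_le ?_)
    rintro N ⟨hN, hp⟩ y hy
    let e := H.equivMapOfInjective contra contra_injective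
    have hle : N.comap e.toMonoidHom ≤ Cfsg.pCore p H :=
      le_sSup ⟨hN.comap _, hp.comap_of_injective _ e.injective⟩
    rw [S.core] at hle
    obtain ⟨x, rfl⟩ := e.surjective y
    have : x = 1 := (Subgroup.mem_bot).1 (hle hy)
    simp [this]
  · refine le_trans (Subgroup.map_mono S.gen) ?_
    rw [MonoidHom.map_closure]
    refine Subgroup.closure_mono ?_
    rintro _ ⟨g, ⟨hg, a, φ, h0, t⟩, rfl⟩
    exact ⟨⟨g, hg, rfl⟩, φ, _, by simp [h0], tv_contra t h0⟩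

theorem comp_contra_of_mem {a₀ : V} {φ₀ : Dual (ZMod p) V} (h₀ : IsC H a₀)
    (hφ₀ : φ₀ ∈ axes H a₀) (hne₀ : φ₀ ≠ 0) {x : V} (hx : x ∈ Comp H a₀)
    {φ : Dual (ZMod p) V} (hφ : φ ∈ axes H x) (hne : φ ≠ 0) :
    φ ∈ Comp (H.map contra) φ₀ := by
  have S' := S.setting_contra
  have hC : ∀ {x : V} {φ : Dual (ZMod p) V}, x ∈ Comp H a₀ → φ ∈ axes H x → φ ≠ 0 →
      IsC (H.map contra) φ := fun hx hφ hne => isC_contra.2 ⟨hne, _, hx.1.1, hφ⟩
  have same : ∀ (x : V) (φ φ' : Dual (ZMod p) V), x ∈ Comp H a₀ → φ ∈ axes H x → φ' ∈ axes H x →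
      φ ≠ 0 → φ' ≠ 0 → φ ∈ Comp (H.map contra) φ₀ → φ' ∈ Comp (H.map contra) φ₀ := by
    intro x φ φ' hx hφ hφ' hne hne' hmem
    obtain ⟨e, he, hφe⟩ := S.exists_seen_mem hx hφ hne
    obtain ⟨θ, hθ, hθx⟩ := S.symm hx.1 he.1 ⟨φ, hφ, hφe⟩
    have hθ0 : θ ≠ 0 := by rintro rfl; simp at hθx
    have h1 : θ ∈ Comp (H.map contra) φ₀ :=
      mem_of_sees hmem (hC he hθ hθ0) (sees_contra.2 ⟨x, hφ, hθx⟩)
    exact S'.mem_of_sees' h1 (hC hx hφ' hne') (sees_contra.2 ⟨x, hφ', hθx⟩)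
  obtain ⟨hxC, hpath⟩ := hx
  induction hpath generalizing φ with
  | refl =>
    exact same a₀ φ₀ φ (mem_self h₀) hφ₀ hφ hne₀ hne
      (mem_self (hC (mem_self h₀) hφ₀ hne₀))
  | @tail y z hy hyz ih =>
    obtain ⟨φ₁, hφ₁, hne₁⟩ := hyz.2.2
    have h0 : φ₁ ≠ 0 := by rintro rfl; simp at hne₁
    exact S'.mem_of_sees' (ih hφ₁ h0 hyz.1) (hC ⟨hxC, hy.tail hyz⟩ hφ hne)
      (sees_contra.2 ⟨z, hφ, hne₁⟩)

theorem mem_of_comp_contra {a₀ : V} {φ₀ : Dual (ZMod p) V} (h₀ : IsC H a₀)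
    (hφ₀ : φ₀ ∈ axes H a₀) (hne₀ : φ₀ ≠ 0) {φ : Dual (ZMod p) V}
    (hφ : φ ∈ Comp (H.map contra) φ₀) {x : V} (hx0 : x ≠ 0) (hx : φ ∈ axes H x) :
    x ∈ Comp H a₀ := by
  obtain ⟨hC, hpath⟩ := hφ
  have hxC : IsC H x := ⟨hx0, fun h => hC.1 ((Submodule.mem_bot _).1 (h ▸ hx))⟩
  induction hpath generalizing x with
  | refl =>
    obtain ⟨e, he, hne⟩ := S.exists_seen_mem (mem_self h₀) hφ₀ hne₀
    exact S.mem_of_sees' he hxC ⟨φ₀, hx, hne⟩
  | @tail ψ θ hψ hψθ ih =>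
    obtain ⟨b, hb, hne⟩ := sees_contra.1 hψθ.2.2
    have hb0 : b ≠ 0 := by rintro rfl; simp at hne
    have hbC : IsC H b := ⟨hb0, fun h => hψθ.1.1 ((Submodule.mem_bot _).1 (h ▸ hb))⟩
    exact S.mem_of_sees' (ih hb0 hb hψθ.1 hbC) hxC ⟨θ, hx, hne⟩

theorem axisSpan_inj {a₀ : V} (h₀ : IsC H a₀) {ζ : Dual (ZMod p) V} (hζ : ζ ∈ axisSpan H a₀)
    (hk : ∀ v ∈ span₀ H a₀, ζ v = 0) : ζ = 0 := by
  obtain ⟨φ₀, hφ₀, hne₀⟩ := Submodule.exists_mem_ne_zero_of_ne_bot h₀.2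
  have S' := S.setting_contra
  have h' : IsC (H.map contra) φ₀ := isC_contra.2 ⟨hne₀, a₀, h₀.1, hφ₀⟩
  have hmem : ζ ∈ rad (H.map contra) φ₀ := by
    refine ⟨Submodule.span_mono ?_ hζ, ?_⟩
    · rintro φ ⟨hne, x, hx, hφ⟩
      exact S.comp_contra_of_mem h₀ hφ₀ hne₀ hx hφ hne
    · intro φ hφ ξ hξ
      obtain ⟨b, rfl, hb⟩ := mem_axes_contra.1 hξ
      rcases eq_or_ne b 0 with rfl | hb0
      · simp
      exact hk b (Submodule.subset_span (S.mem_of_comp_contra h₀ hφ₀ hne₀ hφ hb0 hb))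
  rwa [S'.rad_eq_bot h', Submodule.mem_bot] at hmem

omit S in
theorem axes_le_axisSpan {a₀ x : V} (hx : x ∈ Comp H a₀) : axes H x ≤ axisSpan H a₀ := by
  intro φ hφ
  rcases eq_or_ne φ 0 with rfl | hne
  · exact zero_mem _
  · exact Submodule.subset_span ⟨hne, x, hx, hφ⟩

/-- the projection onto the span of a component along the vectors killed by its axes -/
theorem exists_proj {a₀ : V} (h₀ : IsC H a₀) :
    ∃ π : V →ₗ[ZMod p] span₀ H a₀, (∀ v : span₀ H a₀, π v = v) ∧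
      (∀ v, (∀ x ∈ Comp H a₀, ∀ φ ∈ axes H x, φ v = 0) → π v = 0) ∧
      ∀ v, ∀ x ∈ Comp H a₀, ∀ φ ∈ axes H x, φ (v - π v) = 0 := by
  let r : V →ₗ[ZMod p] Dual (ZMod p) (axisSpan H a₀) :=
    (axisSpan H a₀).subtype.dualMap.comp (Dual.eval (ZMod p) V)
  let q : axisSpan H a₀ →ₗ[ZMod p] Dual (ZMod p) (span₀ H a₀) :=
    (span₀ H a₀).subtype.dualMap.comp (axisSpan H a₀).subtype
  have hr : ∀ v, r v = 0 → ∀ x ∈ Comp H a₀, ∀ φ ∈ axes H x, φ v = 0 :=
    fun v hv x hx φ hφ => LinearMap.congr_fun hv ⟨φ, axes_le_axisSpan hx hφ⟩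
  have hinj : Function.Injective (r.comp (span₀ H a₀).subtype) := by
    refine LinearMap.ker_eq_bot.1 (LinearMap.ker_eq_bot'.2 fun v hv => ?_)
    have hm : (v : V) ∈ rad H a₀ := ⟨v.2, hr _ hv⟩
    rw [S.rad_eq_bot h₀, Submodule.mem_bot] at hm
    exact Subtype.ext hm
  have hqinj : Function.Injective q := by
    refine LinearMap.ker_eq_bot.1 (LinearMap.ker_eq_bot'.2 fun ζ hζ => ?_)
    exact Subtype.ext (S.axisSpan_inj h₀ ζ.2 fun v hv => LinearMap.congr_fun hζ ⟨v, hv⟩)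
  have e1 := LinearMap.finrank_le_finrank_of_injective hinj
  have e2 := LinearMap.finrank_le_finrank_of_injective hqinj
  rw [Subspace.dual_finrank_eq] at e1 e2
  let e := LinearEquiv.ofInjectiveOfFinrankEq (r.comp (span₀ H a₀).subtype) hinj
    (by rw [Subspace.dual_finrank_eq]; omega)
  have he : ∀ v : span₀ H a₀, e v = r v := fun v => rfl
  refine ⟨e.symm.toLinearMap.comp r, fun v => ?_, fun v hv => ?_, fun v x hx φ hφ => ?_⟩
  · show e.symm (r v) = v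
    rw [← he, e.symm_apply_apply]
  · show e.symm (r v) = 0
    have : r v = 0 := by
      refine LinearMap.ext fun ζ => ?_
      exact (show axisSpan H a₀ ≤ LinearMap.ker (Dual.eval (ZMod p) V v) from
        Submodule.span_le.2 fun φ ⟨_, x, hx, hφ⟩ => hv x hx φ hφ) ζ.2
    rw [this, map_zero]
  · refine hr _ ?_ x hx φ hφ
    rw [map_sub]
    show r v - r ((e.symm (r v) : span₀ H a₀) : V) = 0
    rw [← he, e.apply_symm_apply, sub_self]

end Setting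

end Cfsg.Agent.McLaughlin
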